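/-
3-transposition groups with trivial radical in which the local groups `⟨D_x⟩` are solvable with
central odd core: lines.

Main results: `Geom`, `geom_of_solvable`: two members commuting with a commuting pair commute.
-/
import Cfsg.Agent.Lib.ThreeTrans.Structure
import Cfsg.Agent.Lib.ThreeTrans.ConnectedPerfect

set_option autoImplicit false

namespace Cfsg.Agent.ThreeTrans.SolvLocal

open Cfsg Cfsg.Agent.ThreeTransRank Cfsg.Agent.ThreeTrans

variable {G : Type*} [Group G] {D : Set G}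

/-- The members commuting with both `a` and `b`. -/
def line (D : Set G) (a b : G) : Set G := {e | e ∈ D ∧ Commute e a ∧ Commute e b}

/-- The setting: lines are cliques with at least three points. -/
structure Geom (D : Set G) : Prop where
  cls : IsThreeTranspositionClass D
  rad : TrivialRadical G
  conn : ConnectedComm D
  clique : ∀ {a b e e' : G}, a ∈ D → b ∈ D → a ≠ b → Commute a b → e ∈ line D a b →
    e' ∈ line D a b → Commute e e'
  third : ∀ {a b : G}, a ∈ D → b ∈ D → a ≠ b → Commute a b → ∃ e ∈ line D a b, e ≠ a ∧ e ≠ b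
  sol : ∀ {x : G}, x ∈ D → Group.IsSolvable ↥(Loc D x)

/-- A surjective image of a class in which no member becomes trivial is a class. -/
theorem class_map {H : Type*} [Group H] (hD : IsThreeTranspositionClass D) (π : G →* H)
    (hs : Function.Surjective π) (h1 : ∀ d ∈ D, π d ≠ 1) :
    IsThreeTranspositionClass (π '' D) := by
  obtain ⟨hset, ⟨d, hd, hcl⟩, hgen⟩ := id hD
  refine ⟨⟨?_, ?_⟩, ⟨π d, ⟨d, hd, rfl⟩, ?_⟩, ?_⟩
  · rintro _ ⟨x, hx, rfl⟩
    exact orderOf_eq_prime (by rw [← map_pow, pow_two, mul_self hset hx, map_one]) (h1 x hx)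
  · rintro _ ⟨x, hx, rfl⟩ _ ⟨y, hy, rfl⟩
    rcases hset.2 x hx y hy with h | h
    · left; rw [← map_mul, ← map_pow, h, map_one]
    · right; rw [← map_mul, ← map_pow, h, map_one]
  · ext q
    constructor
    · rintro ⟨x, hx, rfl⟩
      obtain ⟨g, hg⟩ := class_conj hD hd hx
      exact isConj_iff.2 ⟨π g, map_conj_eq _ hg⟩
    · intro h
      obtain ⟨g, hg⟩ := isConj_iff.1 (show IsConj (π d) q from h)
      obtain ⟨g, rfl⟩ := hs g
      exact ⟨g * d * g⁻¹, (group_of_class hD).2.1 g d hd, by rw [← hg, map_mul, map_mul, map_inv]⟩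
  · rw [← MonoidHom.map_closure, hgen, Subgroup.map_top_of_surjective _ hs]

theorem not_centralCores_of_solvable [Finite G] (hD : IsThreeTranspositionClass D)
    (h2 : ∃ a ∈ D, ∃ b ∈ D, a ≠ b) (hs : Group.IsSolvable G) : ¬ CentralCores G := by
  intro hc
  obtain ⟨a, ha, -⟩ := id h2
  obtain ⟨e, he, hne⟩ := exists_not_commute hD h2 ha
  have : Group.IsSolvable (⊤ : Subgroup G) := inferInstance
  have := solvable_normal_le_center (group_of_class hD) hc this (Subgroup.mem_top e)
  exact hne (Subgroup.mem_center_iff.1 this a)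

theorem pCore_three_le_oddCore [Finite G] : pCore 3 G ≤ oddCore G := by
  have : Fact (Nat.Prime 3) := ⟨Nat.prime_three⟩
  obtain ⟨n, hn⟩ := IsPGroup.iff_card.1 (Cores.isPGroup_pCore 3 G)
  refine Cores.le_pPrimeCore (Cores.pCore_normal 3 G) ?_
  rw [hn]
  exact Nat.Coprime.pow_left n (by norm_num)

theorem sol_transport (hD : IsThreeTranspositionClass D) {x y : G} (hx : x ∈ D)
    (hy : y ∈ D) (h : Group.IsSolvable ↥(Loc D x)) : Group.IsSolvable ↥(Loc D y) := by
  obtain ⟨g, hg⟩ := class_conj hD hx hy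
  have e : (Loc D x).map (MulAut.conj g).toMonoidHom = Loc D y := by
    rw [Loc, Loc, MonoidHom.map_closure, ← hg, adj_conj_image (group_of_class hD).2.1]
    rfl
  let f := ((Loc D x).equivMapOfInjective _ (MulAut.conj g).injective).trans
      (MulEquiv.subgroupCongr e)
  exact Group.isSolvable_of_surjective (f := f.toMonoidHom) f.surjective

/-- An element of the local group from a member. -/
def loc {x e : G} (he : e ∈ adj D x) : Loc D x := ⟨e, Subgroup.subset_closure he⟩

theorem loc_mem {x e : G} (he : e ∈ adj D x) : loc he ∈ locSet D x := he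

theorem line_eq_of_loc_vRel {x a b : G} (ha : a ∈ adj D x) (hb : b ∈ adj D x)
    (h : VRel (locSet D x) (loc ha) (loc hb)) : line D x a = line D x b := by
  ext e
  constructor <;> rintro ⟨he, hex, hea⟩ <;> refine ⟨he, hex, ?_⟩
  · rcases eq_or_ne e x with rfl | hne
    · exact hb.2.2
    · have hem : e ∈ adj D x := ⟨he, hne, hex.symm⟩
      exact (commute_coe_iff.1 ((h (loc hem) hem).2 (commute_coe_iff.2 hea.symm))).symm
  · rcases eq_or_ne e x with rfl | hne
    · exact ha.2.2
    · have hem : e ∈ adj D x := ⟨he, hne, hex.symm⟩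
      exact (commute_coe_iff.1 ((h (loc hem) hem).1 (commute_coe_iff.2 hea.symm))).symm

theorem ncard_line_eq [Finite G] (hrad : TrivialRadical G) (hD : IsThreeTranspositionClass D)
    {a b c d : G} (ha : a ∈ D) (hb : b ∈ D) (hc : c ∈ D) (hd : d ∈ D) (hab : Commute a b)
    (hcd : Commute c d) (hne : a ≠ b) (hne' : c ≠ d) :
    (line D a b).ncard = (line D c d).ncard := by
  obtain ⟨g, rfl, rfl⟩ := pair_transitive hrad hD ha hb hc hd hab hcd hne hne'
  have hg := group_of_class hD
  have e : line D (g * a * g⁻¹) (g * b * g⁻¹) = (fun e => g * e * g⁻¹) '' line D a b := by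
    ext e
    constructor
    · rintro ⟨he, h1, h2⟩
      refine ⟨g⁻¹ * e * g, ⟨by simpa using hg.2.1 g⁻¹ e he, ?_, ?_⟩, by group⟩
      · simpa [mul_assoc] using h1.map (MulAut.conj g⁻¹).toMonoidHom
      · simpa [mul_assoc] using h2.map (MulAut.conj g⁻¹).toMonoidHom
    · rintro ⟨u, ⟨hu, h1, h2⟩, rfl⟩
      exact ⟨hg.2.1 g u hu, h1.map (MulAut.conj g).toMonoidHom, h2.map (MulAut.conj g).toMonoidHom⟩
  rw [e, Set.ncard_image_of_injective _ fun u v h => mul_left_cancel (mul_right_cancel h)]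

theorem geom_of_solvable [Finite G] (hrad : TrivialRadical G)
    (hperf : ⁅commutator G, commutator G⁆ = commutator G) (hD : IsThreeTranspositionClass D)
    {x₀ : G} (hx₀ : x₀ ∈ D) (hs : Group.IsSolvable ↥(Loc D x₀))
    (hcore : ∀ y ∈ D, oddCore ↥(Loc D y) ≤ Subgroup.center ↥(Loc D y)) : Geom D := by
  have hg := group_of_class hD
  have hc := centralCores_of_trivialRadical hrad
  have hconn := connected_of_perfect hD hperf
  have h2 : ∃ a ∈ D, ∃ b ∈ D, a ≠ b := by
    by_contra h
    have hG : Group.IsSolvable G := Group.isSolvable_of_comm fun u v => by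
      have key : ∀ u ∈ D, u ∈ Subgroup.center G := fun u hu => commute_all_of_gen hD.2.2
        fun e he => by
          rcases eq_or_ne e u with rfl | hne
          · exact Commute.refl e
          · exact absurd ⟨e, he, u, hu, hne⟩ h
      have hv : v ∈ Subgroup.center G :=
        (Subgroup.closure_le _).2 key (by rw [hD.2.2]; exact Subgroup.mem_top v)
      exact Subgroup.mem_center_iff.1 hv u
    have e1 := hrad ⊤ inferInstance inferInstance
    have : x₀ ∈ (⊥ : Subgroup G) := e1 ▸ Subgroup.mem_top x₀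
    exact ne_one hD.1 hx₀ (Subgroup.mem_bot.1 this)
  have hne : ∀ y ∈ D, (adj D y).Nonempty := by
    intro y hy
    obtain ⟨u, hu, v, hv, huv, huvc⟩ := exists_commuting_pair hD h2 hc.2
    exact adj_nonempty_all hD hu hy ⟨v, hv, huv.symm, huvc⟩
  have hcl : ∀ y ∈ D, IsThreeTranspositionClass (locSet D y) := fun y hy =>
    loc_class hD hc hy (hne y hy)
  have htwo : ∀ y ∈ D, ∃ a ∈ locSet D y, ∃ b ∈ locSet D y, a ≠ b := fun y hy =>
    loc_two hD hc hy (hne y hy)
  have hsol : ∀ y ∈ D, Group.IsSolvable ↥(Loc D y) := fun y hy => sol_transport hD hx₀ hy hs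
  have hO2 : ∀ y ∈ D, ¬ pCore 2 ↥(Loc D y) ≤ Subgroup.center ↥(Loc D y) := fun y hy h =>
    not_centralCores_of_solvable (hcl y hy) (htwo y hy) (hsol y hy)
      ⟨h, pCore_three_le_oddCore.trans (hcore y hy)⟩
  -- every commuting pair has a third member with the same line
  have third : ∀ a b : G, a ∈ D → b ∈ adj D a →
      ∃ v ∈ adj D a, v ≠ b ∧ Commute b v ∧ line D a v = line D a b ∧ line D b v = line D a b := by
    intro a b ha hb
    obtain ⟨v, hv, hvb, hvR⟩ := exists_pair_of_not_central (hcl a ha) (hO2 a ha) (loc_mem hb)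
    have hV := vRel_of_mem_pCore_two (hcl a ha).1 (loc_mem hb) hv hvR
    have hbv : Commute b (v : G) :=
      (commute_coe_iff.1 ((hV (loc hb) (loc_mem hb)).2 (Commute.refl _))).symm
    have hne' : (v : G) ≠ b := fun e => hvb (Subtype.ext e)
    have e1 : line D a b = line D a v := line_eq_of_loc_vRel hb hv hV
    refine ⟨v, hv, hne', hbv, e1.symm, (Set.eq_of_subset_of_ncard_le ?_ ?_ (Set.toFinite _)).symm⟩
    · intro e he
      exact ⟨he.1, he.2.2, (e1 ▸ he : e ∈ line D a v).2.2⟩
    · rw [ncard_line_eq hrad hD hb.1 hv.1 ha hb.1 hbv hb.2.2 hne'.symm hb.2.1.symm]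
  -- a member `w` not commuting with `y` but commuting with the neighbours of `y` off its line
  have wstep : ∀ x y : G, x ∈ D → y ∈ adj D x → ∃ w ∈ adj D x, ¬ Commute y w ∧
      ∀ e ∈ adj D x, Commute e y → line D x e = line D x y ∨ Commute e w := by
    intro x y hx hy
    have hE := hcl x hx
    set K := Loc D x with hK
    set π : ↥K →* ↥K ⧸ pCore 2 ↥K := QuotientGroup.mk' _ with hπ
    have hsurj : Function.Surjective π := QuotientGroup.mk'_surjective _
    have hnon : ∀ d ∈ locSet D x, π d ≠ 1 := by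
      intro d hd hd1
      have hdm : d ∈ pCore 2 ↥K := (QuotientGroup.eq_one_iff _).1 hd1
      obtain ⟨e, he, hde⟩ := exists_not_commute hE (htwo x hx) hd
      obtain ⟨g, hge⟩ := class_conj hE hd he
      have hem : e ∈ pCore 2 ↥K := hge ▸ (Cores.pCore_normal 2 ↥K).conj_mem d hdm g
      have h1 := eq_one_of_mem_pCore Nat.prime_two (mul_mem hdm hem)
        (pow_three_of_not_commute hE.1 hd he hde) (by norm_num)
      rw [mul_eq_one_iff_eq_inv, inv_eq hE.1 he] at h1
      exact hde (h1 ▸ Commute.refl d)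
    have hQ := class_map hE π hsurj hnon
    have hlineeq : ∀ (u v : G) (hu : u ∈ adj D x) (hv : v ∈ adj D x), π (loc hu) = π (loc hv) →
        VRel (locSet D x) (loc hu) (loc hv) := fun u v hu hv h =>
      vRel_of_mem_pCore_two hE.1 (loc_mem hu) (loc_mem hv) (QuotientGroup.eq.1 h)
    have hQ2 : ∃ a ∈ π '' locSet D x, ∃ b ∈ π '' locSet D x, a ≠ b := by
      obtain ⟨e, he, hye⟩ := exists_not_commute hE (htwo x hx) (loc_mem hy)
      refine ⟨_, ⟨_, loc_mem hy, rfl⟩, _, ⟨e, he, rfl⟩, fun h => hye ?_⟩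
      exact ((hlineeq y e hy he h (loc hy) (loc_mem hy)).2 (Commute.refl _)).symm
    have hQsol : Group.IsSolvable (↥K ⧸ pCore 2 ↥K) := by
      have := hsol x hx
      exact Group.isSolvable_of_surjective hsurj
    have hn3 : ¬ pCore 3 (↥K ⧸ pCore 2 ↥K) ≤ Subgroup.center _ := fun h =>
      not_centralCores_of_solvable hQ hQ2 hQsol
        ⟨by have := Fact.mk Nat.prime_two; rw [Cores.pCore_quotient_self]; exact bot_le, h⟩
    obtain ⟨_, ⟨w, hw, rfl⟩, hwy, hwR⟩ :=
      exists_pair_of_not_central hQ hn3 ⟨loc hy, loc_mem hy, rfl⟩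
    have hadj := adj_eq_of_mem_pCore_three hQ.1 ⟨loc hy, loc_mem hy, rfl⟩ ⟨w, hw, rfl⟩ hwR
    have hncy : ¬ Commute (π (loc hy)) (π w) :=
      not_commute_of_adj_eq (D := π '' locSet D x) ⟨w, hw, rfl⟩ hadj (Ne.symm hwy)
    refine ⟨w, hw, fun h => hncy ((commute_coe_iff.2 (show Commute ((loc hy : K) : G) w from h)).map π),
      fun e he hey => ?_⟩
    by_cases heq : π (loc he) = π (loc hy)
    · exact Or.inl (line_eq_of_loc_vRel he hy (hlineeq e y he hy heq))
    right
    have h1 : π (loc he) ∈ adj (π '' locSet D x) (π w) := hadj ▸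
      (⟨⟨loc he, loc_mem he, rfl⟩, heq,
        ((commute_coe_iff.2 (show Commute ((loc he : K) : G) (loc hy : K) from hey)).map π).symm⟩ :
        π (loc he) ∈ adj (π '' locSet D x) (π (loc hy)))
    by_contra hn
    have h3 := pow_three_of_not_commute hE.1 (loc_mem he) hw
      fun h => hn (commute_coe_iff.1 h)
    have h4 := (commute_iff_sq hQ.1 h1.1 ⟨w, hw, rfl⟩).1 h1.2.2.symm
    have h5 : π (loc he) * π w = 1 := by
      refine eq_one_of_pow_coprime h4 ?_ (by norm_num : Nat.Coprime 2 3)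
      rw [← map_mul, ← map_pow, h3, map_one]
    rw [mul_eq_one_iff_eq_inv, inv_eq hQ.1 ⟨w, hw, rfl⟩] at h5
    exact h1.2.1 h5
  have notri : ∀ x y e : G, x ∈ D → y ∈ adj D x → e ∈ adj D x → Commute e y →
      line D x e = line D x y := by
    intro x y e hx hy he hey
    rcases eq_or_ne e y with rfl | hney
    · rfl
    by_contra hne'
    obtain ⟨w, hw, hyw, hall⟩ := wstep x y hx hy
    obtain ⟨g, hg', hgy, hygc, hl1, hl2⟩ := third e y he.1 ⟨hy.1, hney.symm, hey⟩
    have hxg : x ∈ line D e g := hl1 ▸ (⟨hx, he.2.2, hy.2.2⟩ : x ∈ line D e y)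
    have hsub : ∀ u v : G, line D x u = line D x v → u ∈ adj D x → v ∈ adj D x → u ≠ v →
        Commute u v → line D u v = line D x v := by
      intro u v huv hu hv hne1 hc1
      refine (Set.eq_of_subset_of_ncard_le ?_ ?_ (Set.toFinite _)).symm
      · intro z hz
        exact ⟨hz.1, (huv.symm ▸ hz : z ∈ line D x u).2.2, hz.2.2⟩
      · rw [ncard_line_eq hrad hD hu.1 hv.1 hx hv.1 hc1 hv.2.2 hne1 hv.2.1.symm]
    have hgx : g ≠ x := by
      intro h
      rw [h] at hl1 hl2
      apply hne'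
      ext z
      constructor <;> rintro ⟨a1, a2, a3⟩
      · exact ⟨a1, a2, ((hl1 ▸ (⟨a1, a3, a2⟩ : z ∈ line D e x)) : z ∈ line D e y).2.2⟩
      · exact ⟨a1, a2, ((hl2 ▸ (⟨a1, a3, a2⟩ : z ∈ line D y x)) : z ∈ line D e y).2.1⟩
    have hgm : g ∈ adj D x := ⟨hg'.1, hgx, hxg.2.2⟩
    have hgl : line D x g ≠ line D x y := by
      intro h
      apply hne'
      have e1 : line D g y = line D x y := hsub g y h hgm hy hgy hygc.symm
      have e2 : line D y g = line D g y := by
        ext z; exact ⟨fun h => ⟨h.1, h.2.2, h.2.1⟩, fun h => ⟨h.1, h.2.2, h.2.1⟩⟩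
      rw [← e2, hl2] at e1
      symm
      refine Set.eq_of_subset_of_ncard_le ?_ ?_ (Set.toFinite _)
      · intro z hz
        exact ⟨hz.1, hz.2.1, (e1.symm ▸ hz : z ∈ line D e y).2.1⟩
      · rw [ncard_line_eq hrad hD hx he.1 hx hy.1 he.2.2 hy.2.2 he.2.1.symm hy.2.1.symm]
    have hgw := (hall g hgm hygc.symm).resolve_left hgl
    have hew := (hall e he hey).resolve_left hne'
    have : w ∈ line D e y := hl1 ▸ (⟨hw.1, hew.symm, hgw.symm⟩ : w ∈ line D e g)
    exact hyw this.2.2.symm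
  refine ⟨hD, hrad, hconn, ?_, ?_, fun {x} hx => hsol x hx⟩
  · rintro a b e e' ha hb hab habc ⟨he, hea, heb⟩ ⟨he', he'a, he'b⟩
    rcases eq_or_ne e a with rfl | hne1
    · exact he'a.symm
    have h := notri a b e ha ⟨hb, hab.symm, habc⟩ ⟨he, hne1, hea.symm⟩ heb
    exact ((h.symm ▸ (⟨he', he'a, he'b⟩ : e' ∈ line D a b)) : e' ∈ line D a e).2.2.symm
  · intro a b ha hb hab habc
    obtain ⟨v, hv, hvb, hbv, -, -⟩ := third a b ha ⟨hb, hab.symm, habc⟩
    exact ⟨v, ⟨hv.1, hv.2.2.symm, hbv.symm⟩, hv.2.1, hvb⟩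

end Cfsg.Agent.ThreeTrans.SolvLocal
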