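/-
The lines form a generalised quadrangle with three or five points on each line.

Main results: `Geom.exists_hit`, `Geom.hit_unique`, `Geom.five_line`, `Geom.line_size`.
-/
import Cfsg.Agent.Lib.ThreeTrans.Solvable.Lines

set_option autoImplicit false

namespace Cfsg.Agent.ThreeTrans.SolvLocal

open Cfsg Cfsg.Agent.ThreeTransRank Cfsg.Agent.ThreeTrans

variable {G : Type*} [Group G] {D : Set G}

theorem cmap (g : G) {x y : G} (h : Commute x y) : Commute (g * x * g⁻¹) (g * y * g⁻¹) :=
  h.map (MulAut.conj g).toMonoidHom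

theorem of_cmap (g : G) {x y : G} (h : Commute (g * x * g⁻¹) (g * y * g⁻¹)) : Commute x y := by
  simpa [mul_assoc] using cmap g⁻¹ h

theorem conj_fix {g x : G} (h : Commute g x) : g * x * g⁻¹ = x := by
  rw [h.eq, mul_inv_cancel_right]

theorem commute_of_fix {g x : G} (h : g * x * g⁻¹ = x) : Commute g x := by
  show g * x = x * g
  calc g * x = g * x * g⁻¹ * g := by group
    _ = x * g := by rw [h]

/-- In a string `b - c - d` the middle member commutes with its conjugate under `b d`. -/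
theorem string_fact (hD : IsThreeTranspositionSet D) {b c d : G} (hb : b ∈ D) (hc : c ∈ D)
    (hd : d ∈ D) (hbd : Commute b d) (hbc : ¬ Commute b c) (hcd : ¬ Commute c d) :
    Commute c (b * d * c * (b * d)⁻¹) := by
  obtain ⟨φ, h0, h1, h2⟩ := exists_hom_four hD hb hc hd hbd hbc hcd
  rw [← h0, ← h1, ← h2, ← map_mul, ← map_mul, ← map_inv, ← map_mul]
  exact (show Commute (Equiv.swap (1 : Fin 4) 2) (Equiv.swap 0 1 * Equiv.swap 2 3 * Equiv.swap 1 2 *
    (Equiv.swap 0 1 * Equiv.swap 2 3)⁻¹) by rw [commute_iff_eq]; decide +kernel).map φ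

/-- In a string `y - w - c` the middle member commutes with `y w c w y`. -/
theorem string_fact' (hD : IsThreeTranspositionSet D) {y w c : G} (hy : y ∈ D) (hw : w ∈ D)
    (hc : c ∈ D) (hyc : Commute y c) (hyw : ¬ Commute y w) (hwc : ¬ Commute w c) :
    Commute w (y * (w * c * w) * y) := by
  obtain ⟨φ, h0, h1, h2⟩ := exists_hom_four hD hy hw hc hyc hyw hwc
  rw [← h0, ← h1, ← h2, ← map_mul, ← map_mul, ← map_mul, ← map_mul]
  exact (show Commute (Equiv.swap (1 : Fin 4) 2) (Equiv.swap 0 1 *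
    (Equiv.swap 1 2 * Equiv.swap 2 3 * Equiv.swap 1 2) * Equiv.swap 0 1) by
      rw [commute_iff_eq]; decide +kernel).map φ

theorem triple_perm {a b d : G} (h₁ : Commute a b) (h₂ : Commute a d) (h₃ : Commute b d) :
    b * a * d = a * b * d ∧ d * a * b = a * b * d := by
  refine ⟨by rw [h₁.eq], ?_⟩
  calc d * a * b = a * d * b := by rw [h₂.eq]
    _ = a * (d * b) := mul_assoc _ _ _
    _ = a * b * d := by rw [← h₃.eq, mul_assoc]

/-- For three commuting `a, b, d` not commuting with `c`, a member commuting with `a`, different from it. -/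
theorem fifth_aux (hD : IsThreeTranspositionSet D) {a b d c : G} (ha : a ∈ D) (hb : b ∈ D)
    (hd : d ∈ D) (hc : c ∈ D) (hbd : Commute b d) (hne : b ≠ d) (hca : ¬ Commute c a)
    (hcb : ¬ Commute c b) (hcd : ¬ Commute c d) :
    Commute (c * (a * b * d) * c * (c * (a * b * d))⁻¹) a ∧
      c * (a * b * d) * c * (c * (a * b * d))⁻¹ ≠ a := by
  have e1 : c * a * c * (c * a)⁻¹ = a := by
    rw [braid hD hc ha hca, mul_inv_rev, inv_eq hD ha, inv_eq hD hc]
    simp only [mul_assoc, mul_self_cancel hD ha, mul_self hD hc, mul_one]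
  have e2 : c * (a * b * d) * c * (c * (a * b * d))⁻¹ =
      c * a * (b * d * c * (b * d)⁻¹) * (c * a)⁻¹ := by group
  rw [e2]
  refine ⟨?_, fun h => ?_⟩
  · have h := cmap (c * a) (string_fact hD hb hc hd hbd (fun h => hcb h.symm) hcd).symm
    rwa [e1] at h
  · have h' := mul_left_cancel (mul_right_cancel (h.trans e1.symm))
    exact hcb ((commute_mul_iff hD hb hd hc hne hbd).1 (commute_of_fix h').symm).1

/-- The same for each of the three. -/
theorem fifth (hD : IsThreeTranspositionSet D) (hconj : ∀ g : G, ∀ d ∈ D, g * d * g⁻¹ ∈ D)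
    {a b d c : G} (ha : a ∈ D) (hb : b ∈ D) (hd : d ∈ D) (hc : c ∈ D) (hab : Commute a b)
    (had : Commute a d) (hbd : Commute b d) (n₁ : a ≠ b) (n₂ : a ≠ d) (n₃ : b ≠ d)
    (hca : ¬ Commute c a) (hcb : ¬ Commute c b) (hcd : ¬ Commute c d) {f : G}
    (hf : f = c * (a * b * d) * c * (c * (a * b * d))⁻¹) :
    f ∈ D ∧ (Commute f a ∧ f ≠ a) ∧ (Commute f b ∧ f ≠ b) ∧ Commute f d ∧ f ≠ d := by
  obtain ⟨p1, p2⟩ := triple_perm hab had hbd
  refine ⟨hf ▸ hconj _ c hc, hf ▸ fifth_aux hD ha hb hd hc hbd n₃ hca hcb hcd, ?_, ?_⟩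
  · have h := fifth_aux hD hb ha hd hc had n₂ hcb hca hcd
    rwa [p1, ← hf] at h
  · have h := fifth_aux hD hd ha hb hc hab n₁ hcd hca hcb
    rwa [p2, ← hf] at h

namespace Geom

variable (h : Geom D)
include h

theorem set : IsThreeTranspositionSet D := h.cls.1

theorem conj : ∀ g : G, ∀ d ∈ D, g * d * g⁻¹ ∈ D := (group_of_class h.cls).2.1

omit h in
theorem left_mem {a b : G} (ha : a ∈ D) (hab : Commute a b) : a ∈ line D a b :=
  ⟨ha, Commute.refl a, hab⟩

omit h in
theorem right_mem {a b : G} (hb : b ∈ D) (hab : Commute a b) : b ∈ line D a b :=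
  ⟨hb, hab.symm, Commute.refl b⟩

theorem line_eq {a b p q : G} (ha : a ∈ D) (hb : b ∈ D) (hne : a ≠ b) (hab : Commute a b)
    (hp : p ∈ line D a b) (hq : q ∈ line D a b) (hpq : p ≠ q) :
    line D p q = line D a b := by
  have hc := h.clique ha hb hne hab hp hq
  ext e
  constructor
  · intro he
    exact ⟨he.1, h.clique hp.1 hq.1 hpq hc he ⟨ha, hp.2.1.symm, hq.2.1.symm⟩,
      h.clique hp.1 hq.1 hpq hc he ⟨hb, hp.2.2.symm, hq.2.2.symm⟩⟩
  · intro he
    exact ⟨he.1, h.clique ha hb hne hab he hp, h.clique ha hb hne hab he hq⟩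

/-- A member commuting with two points of a line lies on it. -/
theorem mem_of_two {a b p q e : G} (ha : a ∈ D) (hb : b ∈ D) (hne : a ≠ b) (hab : Commute a b)
    (hp : p ∈ line D a b) (hq : q ∈ line D a b) (hpq : p ≠ q) (he : e ∈ D) (h₁ : Commute e p)
    (h₂ : Commute e q) : e ∈ line D a b :=
  h.line_eq ha hb hne hab hp hq hpq ▸ (⟨he, h₁, h₂⟩ : e ∈ line D p q)

theorem hit_unique {a b p q c : G} (ha : a ∈ D) (hb : b ∈ D) (hne : a ≠ b) (hab : Commute a b)
    (hp : p ∈ line D a b) (hq : q ∈ line D a b) (hc : c ∈ D) (hcn : c ∉ line D a b)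
    (h₁ : Commute c p) (h₂ : Commute c q) : p = q := by
  by_contra hpq
  exact hcn (h.mem_of_two ha hb hne hab hp hq hpq hc h₁ h₂)

variable [Finite G]

theorem two : ∃ a ∈ D, ∃ b ∈ D, a ≠ b := by
  by_contra h'
  obtain ⟨x, hx, -⟩ := id h.cls.2.1
  have hG : Group.IsSolvable G := Group.isSolvable_of_comm fun u v => by
    have key : ∀ u ∈ D, u ∈ Subgroup.center G := fun u hu => commute_all_of_gen h.cls.2.2
      fun e he => by
        rcases eq_or_ne e u with rfl | hne
        · exact Commute.refl e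
        · exact absurd ⟨e, he, u, hu, hne⟩ h'
    have hv : v ∈ Subgroup.center G :=
      (Subgroup.closure_le _).2 key (by rw [h.cls.2.2]; exact Subgroup.mem_top v)
    exact Subgroup.mem_center_iff.1 hv u
  have e1 := h.rad ⊤ inferInstance inferInstance
  have : x ∈ (⊥ : Subgroup G) := e1 ▸ Subgroup.mem_top x
  exact ne_one h.set hx (Subgroup.mem_bot.1 this)

theorem cores : CentralCores G := centralCores_of_trivialRadical h.rad

theorem adj_ne {x : G} (hx : x ∈ D) : (adj D x).Nonempty := by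
  obtain ⟨u, hu, v, hv, huv, hc⟩ := exists_commuting_pair h.cls h.two h.cores.2
  exact adj_nonempty_all h.cls hu hx ⟨v, hv, huv.symm, hc⟩

/-- A member commuting with `a` but not with its partner `b`. -/
theorem exists_off {a b : G} (ha : a ∈ D) (hb : b ∈ D) (hne : a ≠ b) (hab : Commute a b) :
    ∃ c ∈ D, c ≠ a ∧ Commute c a ∧ ¬ Commute c b := by
  have hb' : b ∈ adj D a := ⟨hb, hne.symm, hab⟩
  obtain ⟨e, he, hne'⟩ := exists_not_commute (loc_class h.cls h.cores ha ⟨b, hb'⟩)
    (loc_two h.cls h.cores ha ⟨b, hb'⟩) (loc_mem hb')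
  exact ⟨e, he.1, he.2.1, he.2.2.symm, fun hc => hne' (commute_coe_iff.2 hc.symm)⟩

theorem exists_common {x c : G} (hx : x ∈ D) (hc : c ∈ D) (hxc : ¬ Commute x c) :
    ∃ y ∈ adj D x, Commute c y := by
  obtain ⟨b, hb⟩ := h.adj_ne hx
  obtain ⟨e, he, -, heb, hex⟩ := h.exists_off hb.1 hx hb.2.1 hb.2.2.symm
  obtain ⟨g, hgx, hge⟩ := noncommuting_transitive h.rad h.cls h.conn hx he hc
    (fun hh => hex hh.symm) hxc
  refine ⟨g * b * g⁻¹, ⟨h.conj g b hb.1, fun e' => hb.2.1 ?_, ?_⟩, ?_⟩
  · rw [← conj_fix hgx] at e'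
    exact mul_left_cancel (mul_right_cancel e')
  · simpa [conj_fix hgx] using cmap g hb.2.2
  · rw [← hge]; exact cmap g heb

theorem exists_hit {a b c : G} (ha : a ∈ D) (hb : b ∈ D) (hne : a ≠ b) (hab : Commute a b)
    (hc : c ∈ D) : ∃ p ∈ line D a b, Commute c p := by
  by_contra hno
  push Not at hno
  have hD := h.set
  obtain ⟨v, hv, hva, hvb⟩ := h.third ha hb hne hab
  have hax := left_mem (D := D) ha hab
  have hbw := right_mem (D := D) hb hab
  have hca := hno a hax
  have hcb := hno b hbw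
  have hcv := hno v hv
  obtain ⟨y, hy, hcy⟩ := h.exists_common ha hc fun e => hca e.symm
  have hyL : y ∉ line D a b := fun hm => hno y hm hcy
  have hyb : ¬ Commute y b := fun e => hyL ⟨hy.1, hy.2.2.symm, e⟩
  have hyv : ¬ Commute y v := fun e =>
    hyL (h.mem_of_two ha hb hne hab hax hv hva.symm hy.1 hy.2.2.symm e)
  obtain ⟨hfD, ⟨hfa, -⟩, ⟨hfb, -⟩, hfv, -⟩ := fifth hD h.conj ha hb hv.1 hc hab hv.2.1.symm
    hv.2.2.symm hne hva.symm hvb.symm hca hcb hcv rfl
  set f := c * (a * b * v) * c * (c * (a * b * v))⁻¹ with hf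
  have hbv : Commute b v := hv.2.2.symm
  have ib := inv_eq hD hb
  have iv := inv_eq hD hv.1
  have iy := inv_eq hD hy.1
  have ia := inv_eq hD ha
  have ic := inv_eq hD hc
  set g := y * (v * b) * y with hg
  have hgi : g⁻¹ = y * (b * v) * y := by
    rw [hg]; simp only [mul_inv_rev, ib, iv, iy, mul_assoc]
  have hga : Commute g a := (hy.2.2.symm.mul_left (hv.2.1.mul_left hab.symm)).mul_left hy.2.2.symm
  have hgv : g * v * g⁻¹ = b := by
    rw [hgi, hg]
    calc y * (v * b) * y * v * (y * (b * v) * y) = y * (v * b) * (y * v * y) * (b * v) * y := by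
          simp only [mul_assoc]
      _ = y * (v * b * v) * y * (v * b * v) * y := by
          rw [braid hD hy.1 hv.1 hyv]; simp only [mul_assoc]
      _ = y * (b * y * b) * y := by
          rw [conj_conj_of_commute hD hv.1 hbv.symm]; simp only [mul_assoc]
      _ = y * (y * b * y) * y := by rw [braid hD hy.1 hb hyb]
      _ = b := by simp only [mul_assoc, mul_self hD hy.1, mul_one, mul_self_cancel hD hy.1]
  set p := g * f * g⁻¹ with hp
  have hpa : Commute p a := by
    have := cmap g hfa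
    rwa [conj_fix hga] at this
  have hpb : Commute p b := hgv ▸ cmap g hfv
  have hpL : p ∈ line D a b := ⟨h.conj g f hfD, hpa, hpb⟩
  apply hno p hpL
  set K := b * v * c * (b * v)⁻¹ with hK
  have hKD : K ∈ D := h.conj _ c hc
  have hcK : Commute c K := string_fact hD hb hc hv.1 hbv (fun e => hcb e.symm) hcv
  have hKa : ¬ Commute K a := fun e => hca (of_cmap (b * v)
    (by rw [conj_fix (hab.symm.mul_left hv.2.1)]; exact e))
  have hKy : ¬ Commute K y := by
    intro e
    have e1 : Commute (b * c * b) (v * y * v) := by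
      have h5 := cmap v e
      have e2 : v * K * v⁻¹ = b * c * b := by
        rw [hK, hbv.eq]
        simp only [mul_inv_rev, ib, iv, mul_assoc, mul_self_cancel hD hv.1, mul_self hD hv.1,
          mul_one]
      rwa [e2, iv] at h5
    rw [← braid hD hy.1 hv.1 hyv] at e1
    have h6 := cmap y e1
    rw [iy] at h6
    have e3 : y * (y * v * y) * y = v := by
      simp only [mul_assoc, mul_self hD hy.1, mul_one, mul_self_cancel hD hy.1]
    rw [e3] at h6
    have h7 := string_fact' hD hy.1 hb hc hcy.symm hyb fun e' => hcb e'.symm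
    have hqD : y * (b * c * b) * y ∈ D := conj_mem hD h.conj hy.1 (conj_mem hD h.conj hb hc)
    have hqL := h.mem_of_two ha hb hne hab hbw hv hvb.symm hqD h7.symm h6
    have h8 := cmap b (cmap y hqL.2.1)
    apply hca
    rw [iy, conj_conj_of_commute hD hy.1 hy.2.2.symm, ib,
      conj_conj_of_commute hD hb hab.symm] at h8
    simpa [mul_assoc, mul_self hD hy.1, mul_self_cancel hD hy.1, mul_self hD hb,
      mul_self_cancel hD hb] using h8
  have hKK : Commute (a * K * a) (y * K * y) := by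
    rw [← braid hD hKD ha hKa, ← braid hD hKD hy.1 hKy]
    have := cmap K hy.2.2
    rwa [inv_eq hD hKD] at this
  have h9 := cmap c hKK
  have e4 : c * (y * K * y) * c⁻¹ = y * K * y := by
    apply conj_fix
    exact (hcy.mul_right hcK).mul_right hcy
  have e5 : c * (a * K * a) * c⁻¹ = f := by
    rw [hf, hK]; simp only [mul_inv_rev, ia, ib, iv, ic, mul_assoc]
  rw [e4, e5] at h9
  have h10 := cmap g h9
  have e6 : g * (y * K * y) * g⁻¹ = c := by
    have hcy' : y * c * y = c := conj_conj_of_commute hD hy.1 hcy.symm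
    rw [hK, hgi, hg]
    simp only [mul_inv_rev, ib, iv, hbv.eq]
    calc y * (v * b) * y * (y * (v * b * c * (v * b)) * y) * (y * (v * b) * y)
        = y * (v * b) * (y * y) * (v * b) * c * (v * b) * (y * y) * (v * b) * y := by
          simp only [mul_assoc]
      _ = y * ((v * b) * (v * b)) * c * ((v * b) * (v * b)) * y := by
          rw [mul_self hD hy.1]; simp only [mul_one, mul_assoc]
      _ = c := by
          have e : (v * b) * (v * b) = 1 := by
            rw [← hbv.eq]; conv_lhs => rw [hbv.eq]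
            calc v * b * (v * b) = v * b * (b * v) := by rw [hbv.eq]
              _ = 1 := by simp only [mul_assoc, mul_self_cancel hD hb, mul_self hD hv.1]
          rw [e, mul_one, mul_one, hcy']
  rw [e6] at h10
  exact h10.symm

/-- Conjugation by two points of a line off the hit. -/
theorem move {a b q u m n : G} (ha : a ∈ D) (hb : b ∈ D) (hne : a ≠ b) (hab : Commute a b)
    (hq : q ∈ line D a b) (hm : m ∈ line D a b) (hn : n ∈ line D a b) (hmq : m ≠ q) (hnq : n ≠ q)
    (hmn : m ≠ n) (hu : u ∈ D) (huL : u ∉ line D a b) (huq : Commute u q) :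
    m * n * u * (m * n)⁻¹ ∈ line D u q ∧ m * n * u * (m * n)⁻¹ ∉ line D a b := by
  have cl := fun {i j : G} (hi : i ∈ line D a b) (hj : j ∈ line D a b) =>
    h.clique ha hb hne hab hi hj
  refine ⟨⟨h.conj _ u hu, (string_fact h.set hm.1 hu hn.1 (cl hm hn) ?_ ?_).symm, ?_⟩, fun hc => huL ?_⟩
  · exact fun e => hmq (h.hit_unique ha hb hne hab hm hq hu huL e.symm huq)
  · exact fun e => hnq (h.hit_unique ha hb hne hab hn hq hu huL e huq)
  · have := cmap (m * n) huq
    rwa [conj_fix ((cl hm hq).mul_left (cl hn hq))] at this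
  · have e : (m * n) * u * (m * n)⁻¹ = u := by
      have hcm : Commute (m * n) (m * n * u * (m * n)⁻¹) := (cl hm hc).mul_left (cl hn hc)
      have := conj_fix hcm
      exact mul_left_cancel (mul_right_cancel this)
    rw [e] at hc
    exact hc

/-- Conjugation by four points of a line off the hit. -/
theorem move_four {a b q u m n m' n' : G} (ha : a ∈ D) (hb : b ∈ D) (hne : a ≠ b)
    (hab : Commute a b) (hq : q ∈ line D a b) (hm : m ∈ line D a b) (hn : n ∈ line D a b)
    (hm' : m' ∈ line D a b) (hn' : n' ∈ line D a b) (hmq : m ≠ q) (hnq : n ≠ q) (hmq' : m' ≠ q)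
    (hnq' : n' ≠ q) (hmn : m ≠ n) (hmn' : m' ≠ n') (hu : u ∈ D) (huL : u ∉ line D a b)
    (huq : Commute u q) : m * n * m' * n' * u * (m * n * m' * n')⁻¹ ∈ line D u q := by
  obtain ⟨h1, h2⟩ := h.move ha hb hne hab hq hm' hn' hmq' hnq' hmn' hu huL huq
  obtain ⟨h3, -⟩ := h.move ha hb hne hab hq hm hn hmq hnq hmn h1.1 h2 h1.2.2
  have e : m * n * m' * n' * u * (m * n * m' * n')⁻¹ =
      m * n * (m' * n' * u * (m' * n')⁻¹) * (m * n)⁻¹ := by group
  rw [e]
  rwa [h.line_eq hu hq.1 (fun e' => huL (e' ▸ hq)) huq h1 (right_mem hq.1 huq)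
    (fun e' => h2 (e' ▸ hq))] at h3

end Geom

end Cfsg.Agent.ThreeTrans.SolvLocal
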