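/-
A line with four points has five, and their product is one.

Main results: `Geom.five_line`, `Geom.line_size`.
-/
import Cfsg.Agent.Lib.ThreeTrans.Solvable.Quadrangle

set_option autoImplicit false

namespace Cfsg.Agent.ThreeTrans.SolvLocal

open Cfsg Cfsg.Agent.ThreeTransRank Cfsg.Agent.ThreeTrans

variable {G : Type*} [Group G] {D : Set G} [Finite G]

namespace Geom

theorem five_line (h : Geom D) {p a b d : G} (hp : p ∈ D) (ha : a ∈ D) (hb : b ∈ D) (hd : d ∈ D)
    (hpa : Commute p a) (hpb : Commute p b) (hpd : Commute p d) (hab : Commute a b)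
    (had : Commute a d) (hbd : Commute b d) (n1 : p ≠ a) (n2 : p ≠ b) (n3 : p ≠ d) (n4 : a ≠ b)
    (n5 : a ≠ d) (n6 : b ≠ d) :
    ∃ f, f ∈ line D p a ∧ (f ≠ p ∧ f ≠ a ∧ f ≠ b ∧ f ≠ d) ∧
      (∀ e ∈ line D p a, e = p ∨ e = a ∨ e = b ∨ e = d ∨ e = f) ∧ a * b * d * f * p = 1 := by
  classical
  have hD := h.set
  have mp : p ∈ line D p a := left_mem hp hpa
  have ma : a ∈ line D p a := right_mem ha hpa
  have mb : b ∈ line D p a := ⟨hb, hpb.symm, hab.symm⟩
  have md : d ∈ line D p a := ⟨hd, hpd.symm, had.symm⟩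
  have cl := fun {i j : G} (hi : i ∈ line D p a) (hj : j ∈ line D p a) =>
    h.clique hp ha n1 hpa hi hj
  obtain ⟨c, hcD, hcp', hcp, hcna⟩ := h.exists_off hp ha n1 hpa
  have hcL : c ∉ line D p a := fun hc => hcna hc.2.2
  have huniq : ∀ {i : G}, i ∈ line D p a → Commute c i → i = p := fun {i} hi hc =>
    h.hit_unique hp ha n1 hpa hi mp hcD hcL hc hcp
  have hcb : ¬ Commute c b := fun e => n2 (huniq mb e).symm
  have hcd : ¬ Commute c d := fun e => n3 (huniq md e).symm
  obtain ⟨hfD, ⟨hfa, hfna⟩, ⟨hfb, hfnb⟩, hfd, hfnd⟩ :=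
    fifth hD h.conj ha hb hd hcD hab had hbd n4 n5 n6 hcna hcb hcd rfl
  set g := a * b * d with hg
  set f := c * g * c * (c * g)⁻¹ with hf
  have mf : f ∈ line D p a := h.mem_of_two hp ha n1 hpa ma mb n4 hfD hfa hfb
  have hgp : Commute g p := ((cl ma mp).mul_left (cl mb mp)).mul_left (cl md mp)
  have hgi : g⁻¹ = g := by
    obtain ⟨p1, p2⟩ := triple_perm hab had hbd
    rw [hg, mul_inv_rev, mul_inv_rev, inv_eq hD ha, inv_eq hD hb, inv_eq hD hd, ← mul_assoc]
    calc d * b * a = d * a * b := by rw [mul_assoc, ← hab.eq, ← mul_assoc]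
      _ = a * b * d := p2
  have ic := inv_eq hD hcD
  have hfc : c * f * c = g * c * g⁻¹ := by
    rw [hf]; simp only [mul_inv_rev, ic, mul_assoc, mul_self_cancel hD hcD, mul_self hD hcD,
      mul_one]
  have hfnp : f ≠ p := by
    intro e
    rw [e, conj_conj_of_commute hD hcD hcp] at hfc
    apply hcp'
    have : g * c * g⁻¹ = g * p * g⁻¹ := by rw [← hfc, conj_fix hgp]
    exact mul_left_cancel (mul_right_cancel this)
  have hcf : ¬ Commute c f := fun e => hfnp (huniq mf e)
  rw [braid hD hcD hfD hcf] at hfc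
  set s := a * b * d * f with hs
  have hgf : Commute g f := ((cl ma mf).mul_left (cl mb mf)).mul_left (cl md mf)
  have hsc : Commute s c := by
    apply commute_of_fix
    show g * f * c * (g * f)⁻¹ = c
    calc g * f * c * (g * f)⁻¹ = g * (f * c * f) * g⁻¹ := by
          rw [mul_inv_rev, inv_eq hD hfD]; simp only [mul_assoc]
      _ = c := by
          rw [hfc, hgi]
          have e : g * g = 1 := by
            have := mul_inv_cancel g
            rwa [hgi] at this
          calc g * (g * c * g) * g = (g * g) * c * (g * g) := by simp only [mul_assoc]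
            _ = c := by rw [e, one_mul, mul_one]
  set r := s * p with hr
  have hrc : Commute r c := hsc.mul_left hcp.symm
  -- the five points
  let v : Fin 5 → G := ![a, b, d, f, p]
  have hv : ∀ i, v i ∈ line D p a := by intro i; fin_cases i <;> assumption
  have hperm : ∀ l : List (Fin 5), l.Perm [0, 1, 2, 3, 4] → (l.map v).prod = r := by
    intro l hl
    have h5 := (hl.map v).prod_eq' (List.pairwise_of_forall_mem_list fun i hi j hj => by
      obtain ⟨i', -, rfl⟩ := List.mem_map.1 hi
      obtain ⟨j', -, rfl⟩ := List.mem_map.1 hj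
      exact cl (hv i') (hv j'))
    rw [h5]
    simp [v, hr, hs, mul_assoc]
  have fixq : ∀ {m q u : G}, Commute q u → (m * q) * u * (m * q)⁻¹ = m * u * m⁻¹ := by
    intro m q u hqu
    calc (m * q) * u * (m * q)⁻¹ = m * (q * u * q⁻¹) * m⁻¹ := by group
      _ = m * u * m⁻¹ := by rw [conj_fix hqu]
  -- conjugation by s or r keeps the line through a member and its hit
  have moveS : ∀ q u, q ∈ line D p a → u ∈ D → u ∉ line D p a → Commute u q →
      a ≠ q → b ≠ q → d ≠ q → f ≠ q → s * u * s⁻¹ ∈ line D u q := fun q u hq hu huL huq q1 q2 q3 q4 => by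
    have := h.move_four hp ha n1 hpa hq ma mb md mf q1 q2 q3 q4 n4 hfnd.symm hu huL huq
    rwa [← hs] at this
  have moveR : ∀ q u, u ∈ D → u ∉ line D p a → Commute u q → q = a ∨ q = b ∨ q = d ∨ q = f →
      r * u * r⁻¹ ∈ line D u q := by
    intro q u hu huL huq hq
    rcases hq with rfl | rfl | rfl | rfl
    · have := h.move_four hp ha n1 hpa ma mb md mf mp n4.symm n5.symm hfna n1 n6 hfnp hu huL huq
      rw [← hperm [1, 2, 3, 4, 0] (by decide)]
      simp only [v, List.map_cons, List.map_nil, List.prod_cons, List.prod_nil, mul_one,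
        Matrix.cons_val, ← mul_assoc]
      rw [fixq huq.symm]
      exact this
    · have := h.move_four hp ha n1 hpa mb ma md mf mp n4 n6.symm hfnb n2 n5 hfnp hu huL huq
      rw [← hperm [0, 2, 3, 4, 1] (by decide)]
      simp only [v, List.map_cons, List.map_nil, List.prod_cons, List.prod_nil, mul_one,
        Matrix.cons_val, ← mul_assoc]
      rw [fixq huq.symm]
      exact this
    · have := h.move_four hp ha n1 hpa md ma mb mf mp n5 n6 hfnd n3 n4 hfnp hu huL huq
      rw [← hperm [0, 1, 3, 4, 2] (by decide)]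
      simp only [v, List.map_cons, List.map_nil, List.prod_cons, List.prod_nil, mul_one,
        Matrix.cons_val, ← mul_assoc]
      rw [fixq huq.symm]
      exact this
    · have := h.move_four hp ha n1 hpa mf ma mb md mp hfna.symm hfnb.symm hfnd.symm hfnp.symm
        n4 n3.symm hu huL huq
      rw [← hperm [0, 1, 2, 4, 3] (by decide)]
      simp only [v, List.map_cons, List.map_nil, List.prod_cons, List.prod_nil, mul_one,
        Matrix.cons_val, ← mul_assoc]
      rw [fixq huq.symm]
      exact this
  -- a choice of `s` or `r` for each hit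
  have moveT : ∀ q u, q ∈ line D p a → u ∈ D → u ∉ line D p a → Commute u q →
      ∃ t, (t = s ∨ t = r) ∧ t * u * t⁻¹ ∈ line D u q ∧
        (q ≠ a → q ≠ b → q ≠ d → q ≠ f → t = s) ∧ (q = a ∨ q = b ∨ q = d ∨ q = f → t = r) := by
    intro q u hq hu huL huq
    by_cases hc' : q = a ∨ q = b ∨ q = d ∨ q = f
    · exact ⟨r, Or.inr rfl, moveR q u hu huL huq hc', fun q1 q2 q3 q4 =>
        absurd hc' (by simp [q1, q2, q3, q4]), fun _ => rfl⟩
    · simp only [not_or] at hc'
      exact ⟨s, Or.inl rfl, moveS q u hq hu huL huq (Ne.symm hc'.1) (Ne.symm hc'.2.1)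
        (Ne.symm hc'.2.2.1) (Ne.symm hc'.2.2.2), fun _ _ _ _ => rfl,
        fun e => absurd e (by simp [hc'.1, hc'.2.1, hc'.2.2.1, hc'.2.2.2])⟩
  -- members commuting with p: one fixed base fixes those not commuting with it
  have step : ∀ c' e, c' ∈ D → c' ∉ line D p a → Commute c' p → Commute s c' → Commute r c' →
      e ∈ D → e ∉ line D p a → Commute e p → ¬ Commute e c' → Commute s e ∧ Commute r e := by
    intro c' e hc' hc'L hc'p hs' hr' he heL hep hec
    have hne : c' ≠ p := fun e' => hc'L (e' ▸ mp)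
    obtain ⟨w, hw, hwne, hwc, hwp⟩ := h.exists_off hc' hp hne hc'p
    obtain ⟨u, hu, heu⟩ := h.exists_hit hc' hw hwne.symm hwc.symm he
    have huc : u ≠ c' := fun e' => hec (e' ▸ heu)
    have hup : ¬ Commute u p := by
      intro e'
      have h1 := h.line_eq hc' hw hwne.symm hwc.symm hu (left_mem hc' hwc.symm) huc
      have h2 : u ∈ line D c' p := ⟨hu.1, hu.2.1, e'⟩
      have h3 := h.line_eq hc' hp hne hc'p h2 (left_mem hc' hc'p) huc
      have : p ∈ line D c' w := h1 ▸ h3.symm ▸ right_mem hp hc'p
      exact hwp this.2.2.symm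
    have huL : u ∉ line D p a := fun e' => hup e'.2.1
    obtain ⟨q, hq, huq⟩ := h.exists_hit hp ha n1 hpa hu.1
    obtain ⟨t, ht, htu, -, -⟩ := moveT q u hq hu.1 huL huq
    have htc : Commute t c' := by rcases ht with rfl | rfl <;> assumption
    have hqu : u ≠ q := fun e' => huL (e' ▸ hq)
    have hqp : q ≠ p := fun e' => hup (e' ▸ huq)
    have hfixu : Commute t u := by
      apply commute_of_fix
      by_contra hne'
      have h4 : Commute c' (t * u * t⁻¹) := by
        have := cmap t hu.2.1.symm
        rwa [conj_fix htc] at this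
      have h5 : c' ∈ line D u q := h.mem_of_two hu.1 hq.1 hqu huq
        (left_mem hu.1 huq) htu (Ne.symm hne') hc' hu.2.1.symm h4
      exact hqp (h.hit_unique hp ha n1 hpa hq mp hc' hc'L h5.2.2 hc'p)
    have hse : r * e * r⁻¹ = s * e * s⁻¹ := fixq hep.symm
    have hmove : s * e * s⁻¹ ∈ line D e p :=
      moveS p e mp he heL hep n1.symm n2.symm n3.symm hfnp
    have hte : t * e * t⁻¹ = s * e * s⁻¹ := by rcases ht with rfl | rfl <;> [rfl; exact hse]
    have hfix : s * e * s⁻¹ = e := by
      by_contra hne'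
      have h4 : Commute u (s * e * s⁻¹) := by
        have := cmap t heu.symm
        rwa [conj_fix hfixu, hte] at this
      have h5 : u ∈ line D e p := h.mem_of_two he hp (fun e' => heL (e' ▸ mp)) hep
        (left_mem he hep) hmove (Ne.symm hne') hu.1 heu.symm h4
      exact hup h5.2.2
    exact ⟨commute_of_fix hfix, commute_of_fix (hse.trans hfix)⟩
  have fixL : ∀ e ∈ line D p a, Commute s e ∧ Commute r e := fun e he =>
    have h1 : Commute s e := (((cl ma he).mul_left (cl mb he)).mul_left (cl md he)).mul_left (cl mf he)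
    ⟨h1, h1.mul_left (cl mp he)⟩
  have fixP : ∀ e ∈ D, Commute e p → Commute s e ∧ Commute r e := by
    intro e he hep
    by_cases heL : e ∈ line D p a
    · exact fixL e heL
    by_cases hec : Commute e c
    · set e0 := c * a * c with he0
      have m0 : e0 ∈ D := conj_mem hD h.conj hcD ha
      have h0p : Commute e0 p := (hcp.mul_left hpa.symm).mul_left hcp
      have h0c : ¬ Commute e0 c := fun e' => hcna (by
        have := cmap c e'
        rw [ic] at this
        simpa [he0, mul_assoc, mul_self hD hcD, mul_self_cancel hD hcD] using this.symm)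
      have h0L : e0 ∉ line D p a := fun e' => h0c (by
        have := cmap a e'.2.2
        rw [he0, braid hD hcD ha hcna, inv_eq hD ha] at this
        have : Commute c a := by
          simpa [mul_assoc, mul_self hD ha, mul_self_cancel hD ha] using this
        exact absurd this hcna)
      obtain ⟨hs0, hr0⟩ := step c e0 hcD hcL hcp hsc hrc m0 h0L h0p h0c
      refine step e0 e m0 h0L h0p hs0 hr0 he heL hep fun e' => ?_
      have hne : e ≠ p := fun e'' => heL (e'' ▸ mp)
      have h1 : c ∈ line D e p := ⟨hcD, hec.symm, hcp⟩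
      have h2 : e0 ∈ line D e p := ⟨m0, e'.symm, h0p⟩
      exact h0c (h.clique he hp hne hep h2 h1)
    · exact step c e hcD hcL hcp hsc hrc he heL hep hec
  have fixU : ∀ u ∈ D, u ∉ line D p a → ∀ q ∈ line D p a, Commute u q →
      (q = a ∨ q = b ∨ q = d ∨ q = f → Commute r u) ∧
        (q ≠ a → q ≠ b → q ≠ d → q ≠ f → Commute s u) := by
    intro u hu huL q hq huq
    have hqu : u ≠ q := fun e => huL (e ▸ hq)
    obtain ⟨w, hw, hwne, hwu, hwq⟩ := h.exists_off hu hq.1 hqu huq
    obtain ⟨t, ht, htu, htS, htR⟩ := moveT q u hq hu huL huq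
    have hfixt : Commute t u := by
      by_cases hqp : q = p
      · have h3 := fixP u hu (hqp ▸ huq)
        rcases ht with rfl | rfl
        exacts [h3.1, h3.2]
      obtain ⟨e, he, hpe⟩ := h.exists_hit hu hw hwne.symm hwu.symm hp
      have heu : e ≠ u := fun e' => hqp
        (h.hit_unique hp ha n1 hpa hq mp hu huL huq (e' ▸ hpe).symm)
      have hte : Commute t e := by
        have h3 := fixP e he.1 hpe.symm
        rcases ht with rfl | rfl
        exacts [h3.1, h3.2]
      apply commute_of_fix
      by_contra hne'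
      have h4 : Commute e (t * u * t⁻¹) := by
        have := cmap t he.2.1
        rwa [conj_fix hte] at this
      have h5 : e ∈ line D u q := h.mem_of_two hu hq.1 hqu huq (left_mem hu huq) htu
        (Ne.symm hne') he.1 he.2.1 h4
      have h6 : q ∈ line D u e := ⟨hq.1, huq.symm, h5.2.2.symm⟩
      rw [h.line_eq hu hw hwne.symm hwu.symm (left_mem hu hwu.symm) he (Ne.symm heu)] at h6
      exact hwq h6.2.2.symm
    exact ⟨fun e => htR e ▸ hfixt, fun q1 q2 q3 q4 => htS q1 q2 q3 q4 ▸ hfixt⟩
  have five : ∀ z ∈ line D p a, z = p ∨ z = a ∨ z = b ∨ z = d ∨ z = f := by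
    intro z hz
    by_contra hz'
    simp only [not_or] at hz'
    obtain ⟨z1, z2, z3, z4, z5⟩ := hz'
    obtain ⟨u, hu, hua, huac, hup⟩ := h.exists_off ha hp n1.symm hpa.symm
    have huL : u ∉ line D p a := fun e => hup e.2.1
    obtain ⟨w, hw, hwne, hwu, hwa⟩ := h.exists_off hu ha hua huac
    have haW : a ∉ line D u w := fun e => hwa e.2.2.symm
    obtain ⟨e, he, hpe⟩ := h.exists_hit hu hw hwne.symm hwu.symm hp
    obtain ⟨e2, he2, hze⟩ := h.exists_hit hu hw hwne.symm hwu.symm hz.1
    have heu : e ≠ u := fun e' => hup (e' ▸ hpe).symm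
    have heL : e ∉ line D p a := fun e' => haW (by
      have : e = a := by
        by_contra hea
        exact huL (h.mem_of_two hp ha n1 hpa e' ma hea hu he.2.1.symm huac)
      exact this ▸ he)
    have hne2 : e ≠ e2 := fun e' => heL
      (h.mem_of_two hp ha n1 hpa mp hz (Ne.symm z1) he.1 hpe.symm (e' ▸ hze).symm)
    have he2L : e2 ∉ line D p a := fun e' => haW (by
      have : e2 = a := by
        by_contra hea
        exact huL (h.mem_of_two hp ha n1 hpa e' ma hea hu he2.2.1.symm huac)
      exact this ▸ he2)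
    have hse := (fixP e he.1 hpe.symm).1
    have hse2 := (fixU e2 he2.1 he2L z hz hze.symm).2 z2 z3 z4 z5
    have hru := (fixU u hu huL a ma huac).1 (Or.inl rfl)
    have hsu : Commute s u := by
      apply commute_of_fix
      have h1 : Commute (s * u * s⁻¹) e := by
        have := cmap s he.2.1.symm
        rwa [conj_fix hse] at this
      have h2 : Commute (s * u * s⁻¹) e2 := by
        have := cmap s he2.2.1.symm
        rwa [conj_fix hse2] at this
      have h3 := h.mem_of_two hu hw hwne.symm hwu.symm he he2 hne2 (h.conj _ u hu) h1 h2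
      have h4 : Commute a (s * u * s⁻¹) := by
        have := cmap s huac.symm
        rwa [conj_fix (fixL a ma).1] at this
      exact h.hit_unique hu hw hwne.symm hwu.symm h3 (left_mem hu hwu.symm) ha haW h4 huac.symm
    apply hup
    have hsp : p = s⁻¹ * r := by rw [hr]; group
    rw [hsp]
    exact (hsu.inv_left.mul_left hru).symm
  refine ⟨f, mf, ⟨hfnp, hfna, hfnb, hfnd⟩, five, ?_⟩
  have hcen : r ∈ Subgroup.center G := by
    refine commute_all_of_gen h.cls.2.2 fun u hu => ?_
    by_cases huL : u ∈ line D p a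
    · exact (fixL u huL).2.symm
    obtain ⟨q, hq, huq⟩ := h.exists_hit hp ha n1 hpa hu
    rcases five q hq with rfl | hq'
    · exact (fixP u hu huq).2.symm
    · exact ((fixU u hu huL q hq huq).1 hq').symm
  rw [center_eq_bot_of_trivialRadical h.rad, Subgroup.mem_bot] at hcen
  exact hcen

/-- A line has three or five points. -/
theorem line_size (h : Geom D) {a b : G} (ha : a ∈ D) (hb : b ∈ D) (hne : a ≠ b)
    (hab : Commute a b) : (line D a b).ncard = 3 ∨ (line D a b).ncard = 5 := by
  obtain ⟨e, he, hea, heb⟩ := h.third ha hb hne hab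
  by_cases h4 : ∀ z ∈ line D a b, z = a ∨ z = b ∨ z = e
  · left
    have hset : line D a b = {a, b, e} := by
      ext z
      refine ⟨fun hz => h4 z hz, ?_⟩
      rintro (rfl | rfl | rfl)
      exacts [left_mem ha hab, right_mem hb hab, he]
    rw [hset, Set.ncard_insert_of_notMem (by simp [hne, Ne.symm hea]),
      Set.ncard_pair (Ne.symm heb)]
  right
  push Not at h4
  obtain ⟨z, hz, z1, z2, z3⟩ := h4
  have cl := fun {i j : G} (hi : i ∈ line D a b) (hj : j ∈ line D a b) =>
    h.clique ha hb hne hab hi hj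
  obtain ⟨f, hf, ⟨f1, f2, f3, f4⟩, hall, -⟩ := h.five_line ha hb he.1 hz.1 hab he.2.1.symm
    hz.2.1.symm he.2.2.symm hz.2.2.symm (cl he hz) hne hea.symm z1.symm heb.symm z2.symm z3.symm
  have hset : line D a b = {a, b, e, z, f} := by
    ext t
    refine ⟨fun ht => hall t ht, ?_⟩
    rintro (rfl | rfl | rfl | rfl | rfl)
    exacts [left_mem ha hab, right_mem hb hab, he, hz, hf]
  rw [hset, Set.ncard_insert_of_notMem (by simp [hne, Ne.symm hea, Ne.symm z1, Ne.symm f1]),
    Set.ncard_insert_of_notMem (by simp [Ne.symm heb, Ne.symm z2, Ne.symm f2]),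
    Set.ncard_insert_of_notMem (by simp [Ne.symm z3, Ne.symm f3]),
    Set.ncard_pair (Ne.symm f4)]

end Geom

end Cfsg.Agent.ThreeTrans.SolvLocal
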