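/-
The parameters of the quadrangle and a criterion for generation.

Main results: `Geom.params`, `Geom.gen_top`.
-/
import Cfsg.Agent.Lib.ThreeTrans.Solvable.FiveLine

set_option autoImplicit false

namespace Cfsg.Agent.ThreeTrans.SolvLocal

open Cfsg Cfsg.Agent.ThreeTransRank Cfsg.Agent.ThreeTrans

universe u

variable {G : Type u} [Group G] {D : Set G}

/-- The members commuting with both of two non-commuting members. -/
def com (D : Set G) (x c : G) : Set G := {p | p ∈ adj D x ∧ Commute c p}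

/-- A subset of a cube set closed under reflection has a power of three as size. -/
theorem ncard_closed [Finite G] {E R : Set G} (hE : CubeSet E) (hR : R ⊆ E) (hne : R.Nonempty)
    (hcl : ∀ a ∈ R, ∀ b ∈ R, a * b * a ∈ R) : ∃ j : ℕ, R.ncard = 3 ^ j := by
  have : Fact (Nat.Prime 3) := ⟨Nat.prime_three⟩
  obtain ⟨a₀, ha₀⟩ := hne
  set P := Subgroup.closure {g : G | ∃ a ∈ R, ∃ b ∈ R, a * b = g} with hP
  have hPle : P ≤ pCore 3 G := by
    rw [hP, Subgroup.closure_le]
    rintro _ ⟨a, ha, b, hb, rfl⟩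
    exact hE.mul_mem_pCore_three (hR ha) (hR hb)
  set P' : Subgroup (ConjAct G) := P.map (ConjAct.toConjAct (G := G)).toMonoidHom with hP'
  have hp : IsPGroup 3 P' := ((Cores.isPGroup_pCore 3 G).to_le hPle).map _
  have hclosed : ∀ g ∈ P, ∀ r ∈ R, g * r * g⁻¹ ∈ R ∧ g⁻¹ * r * g ∈ R := by
    intro g hg
    induction hg using Subgroup.closure_induction with
    | mem u hu =>
      obtain ⟨a, ha, b, hb, rfl⟩ := hu
      intro r hr
      have key : ∀ a ∈ R, ∀ b ∈ R, a * b * r * (a * b)⁻¹ ∈ R := by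
        intro a ha b hb
        have := hcl a ha _ (hcl b hb r hr)
        rw [mul_inv_rev, hE.inv_eq (hR ha), hE.inv_eq (hR hb)]
        simpa [mul_assoc] using this
      refine ⟨key a ha b hb, ?_⟩
      have := key b hb a ha
      simpa [mul_assoc, hE.inv_eq (hR ha), hE.inv_eq (hR hb)] using this
    | one => intro r hr; simpa using hr
    | mul u v _ _ hu hv =>
      intro r hr
      exact ⟨by simpa [mul_assoc] using (hu _ (hv r hr).1).1,
        by simpa [mul_assoc] using (hv _ (hu r hr).2).2⟩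
    | inv u _ hu => intro r hr; simpa using (hu r hr).symm
  have horb : MulAction.orbit P' a₀ = R := by
    ext r
    constructor
    · rintro ⟨⟨_, g, hg, rfl⟩, rfl⟩
      exact (hclosed g hg a₀ ha₀).1
    · intro hr
      refine ⟨⟨_, a₀ * r, Subgroup.subset_closure ⟨a₀, ha₀, r, hr, rfl⟩, rfl⟩, ?_⟩
      show a₀ * r * a₀ * (a₀ * r)⁻¹ = r
      rw [hE.conj_eq (hR ha₀) (hR hr), mul_inv_rev, hE.inv_eq (hR ha₀), hE.inv_eq (hR hr)]
      calc r * a₀ * r * (r * a₀) = r * (a₀ * ((r * r) * a₀)) := by simp only [mul_assoc]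
        _ = r := by rw [hE.mul_self (hR hr), one_mul, hE.mul_self (hR ha₀), mul_one]
  obtain ⟨n, hn⟩ := hp.card_orbit a₀
  exact ⟨n, by rw [← horb, ← Nat.card_coe_set_eq]; exact hn⟩

namespace Geom

variable [Finite G] (h : Geom D)
include h

theorem com_noncomm {x c p q : G} (hx : x ∈ D) (hc : c ∈ D) (hxc : ¬ Commute x c)
    (hp : p ∈ com D x c) (hq : q ∈ com D x c) (hpq : p ≠ q) : ¬ Commute p q := fun e =>
  hxc (h.clique hp.1.1 hq.1.1 hpq e ⟨hx, hp.1.2.2, hq.1.2.2⟩ ⟨hc, hp.2, hq.2⟩)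

/-- The projection of the members commuting with `x`. -/
theorem local_map {x : G} (hx : x ∈ D) :
    ∃ (Q : Type u) (_ : Group Q) (_ : Finite Q) (π : ↥(Loc D x) →* Q),
      CubeSet (π '' locSet D x) ∧
      ∀ a b : G, ∀ (ha : a ∈ adj D x) (hb : b ∈ adj D x),
        (π (loc ha) = π (loc hb) ↔ Commute a b) := by
  have hne := h.adj_ne hx
  have hE := loc_class h.cls h.cores hx hne
  set π : ↥(Loc D x) →* ↥(Loc D x) ⧸ pCore 2 ↥(Loc D x) := QuotientGroup.mk' _ with hπ
  have hsurj : Function.Surjective π := QuotientGroup.mk'_surjective _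
  have hiff : ∀ a b : G, ∀ (ha : a ∈ adj D x) (hb : b ∈ adj D x),
      (π (loc ha) = π (loc hb) ↔ Commute a b) := by
    intro a b ha hb
    refine ⟨fun e => ?_, fun e => ?_⟩
    · have hV := vRel_of_mem_pCore_two hE.1 (loc_mem ha) (loc_mem hb) (QuotientGroup.eq.1 e)
      exact (commute_coe_iff.1 ((hV (loc ha) (loc_mem ha)).2 (Commute.refl _))).symm
    · have hV : VRel (locSet D x) (loc ha) (loc hb) := fun z hz => by
        rw [commute_coe_iff, commute_coe_iff]
        constructor <;> intro hz'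
        · exact h.clique hx hb.1 hb.2.1.symm hb.2.2 ⟨ha.1, ha.2.2.symm, e⟩
            ⟨hz.1, hz.2.2.symm, hz'.symm⟩
        · exact h.clique hx ha.1 ha.2.1.symm ha.2.2 ⟨hb.1, hb.2.2.symm, e.symm⟩
            ⟨hz.1, hz.2.2.symm, hz'.symm⟩
      refine QuotientGroup.eq.2 ?_
      rw [inv_eq hE.1 (loc_mem ha)]
      exact mul_mem_pCore_two_of_vRel hE.1 (group_of_class hE).2.1 (loc_mem ha) (loc_mem hb) hV
  refine ⟨_, inferInstance, inferInstance, π, ⟨?_, ?_, ?_⟩, hiff⟩
  · rintro _ ⟨d, hd, rfl⟩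
    refine orderOf_eq_prime (by rw [← map_pow, pow_two, mul_self hE.1 hd, map_one]) fun hd1 => ?_
    have hdm : d ∈ pCore 2 ↥(Loc D x) := (QuotientGroup.eq_one_iff _).1 hd1
    obtain ⟨e, he, hde⟩ := exists_not_commute hE (loc_two h.cls h.cores hx hne) hd
    obtain ⟨g, hge⟩ := class_conj hE hd he
    have hem : e ∈ pCore 2 ↥(Loc D x) := hge ▸ (Cores.pCore_normal 2 _).conj_mem d hdm g
    apply hde
    rw [commute_coe_iff]
    exact (hiff d e hd he).1 ((((QuotientGroup.eq_one_iff _).2 hdm).trans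
      ((QuotientGroup.eq_one_iff _).2 hem).symm : π d = π e))
  · intro q
    rintro _ ⟨d, hd, rfl⟩
    obtain ⟨g, rfl⟩ := hsurj q
    exact ⟨g * d * g⁻¹, (group_of_class hE).2.1 g d hd, by rw [map_mul, map_mul, map_inv]⟩
  · rintro _ ⟨u, hu, rfl⟩ _ ⟨v, hv, rfl⟩
    by_cases huv : Commute (u : G) (v : G)
    · have e : π u = π v := (hiff u v hu hv).2 huv
      rw [← e, ← map_mul, mul_self hE.1 hu, map_one, one_pow]
    · rw [← map_mul, ← map_pow, pow_three_of_not_commute hE.1 hu hv fun e => huv (commute_coe_iff.1 e),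
        map_one]

theorem com_pow_three {x c : G} (hx : x ∈ D) (hc : c ∈ D) (hxc : ¬ Commute x c) :
    ∃ j : ℕ, 0 < j ∧ (com D x c).ncard = 3 ^ j := by
  obtain ⟨Q, _, _, π, hcube, hiff⟩ := h.local_map hx
  have hhit : ∀ a, a ∈ adj D x → ∃ p ∈ com D x c, Commute p a := by
    intro a ha
    obtain ⟨p, hp, hcp⟩ := h.exists_hit hx ha.1 ha.2.1.symm ha.2.2 hc
    exact ⟨p, ⟨⟨hp.1, fun e => hxc (e ▸ hcp).symm, hp.2.1.symm⟩, hcp⟩, hp.2.2⟩
  have hcard : (π '' locSet D x).ncard = (com D x c).ncard := by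
    symm
    refine Set.ncard_congr (fun p hp => π (loc hp.1)) (fun p hp => ⟨_, loc_mem hp.1, rfl⟩) ?_ ?_
    · intro p q hp hq e
      by_contra hne
      exact h.com_noncomm hx hc hxc hp hq hne ((hiff p q hp.1 hq.1).1 e)
    · rintro _ ⟨d, hd, rfl⟩
      obtain ⟨p, hp, hpd⟩ := hhit d hd
      exact ⟨p, hp, (hiff p d hp.1 hd).2 hpd⟩
  obtain ⟨y, hy⟩ := h.adj_ne hx
  have hE := loc_class h.cls h.cores hx ⟨y, hy⟩
  obtain ⟨j, hj⟩ := ncard_closed hcube subset_rfl ⟨_, _, loc_mem hy, rfl⟩ fun a ha b hb => by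
    have := hcube.conj a b hb
    rwa [hcube.inv_eq ha] at this
  refine ⟨j, Nat.pos_of_ne_zero fun hj0 => ?_, hcard ▸ hj⟩
  obtain ⟨e, he, hye⟩ := exists_not_commute hE (loc_two h.cls h.cores hx ⟨y, hy⟩) (loc_mem hy)
  rw [hj0, pow_zero, Set.ncard_eq_one] at hj
  obtain ⟨q, hq⟩ := hj
  have h1 : π (loc hy) ∈ ({q} : Set Q) := hq ▸ ⟨_, loc_mem hy, rfl⟩
  have h2 : π e ∈ ({q} : Set Q) := hq ▸ ⟨e, he, rfl⟩
  exact hye (commute_coe_iff.2 ((hiff y e hy he).1 (h1.trans h2.symm)))

theorem line_card {a b c d : G} (ha : a ∈ D) (hb : b ∈ D) (hne : a ≠ b) (hab : Commute a b)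
    (hc : c ∈ D) (hd : d ∈ D) (hne' : c ≠ d) (hcd : Commute c d) :
    (line D a b).ncard = (line D c d).ncard :=
  ncard_line_eq h.rad h.cls ha hb hc hd hab hcd hne hne'

open scoped Classical in
/-- The possible parameters. -/
theorem params {x c w : G} (hx : x ∈ D) (hc : c ∈ D) (hxc : ¬ Commute x c) (hw : w ∈ adj D x) :
    ((line D x w).ncard = 3 ∧ (com D x c).ncard = 3) ∨
    ((line D x w).ncard = 5 ∧ ((com D x c).ncard = 3 ∨ (com D x c).ncard = 9)) := by
  have : Fintype G := Fintype.ofFinite G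
  obtain ⟨j, hj0, hj⟩ := h.com_pow_three hx hc hxc
  set k := (line D x w).ncard with hk
  set m := (com D x c).ncard with hm
  have hks : k = 3 ∨ k = 5 := h.line_size hx hw.1 hw.2.1.symm hw.2.2
  let Df : Finset G := D.toFinset
  let A : G → Finset G := fun e => Df.filter fun z => z ≠ e ∧ Commute e z
  let C : G → G → Finset G := fun e z => (A e).filter fun p => Commute z p
  have mA : ∀ e z, z ∈ A e ↔ z ∈ adj D e := fun e z => by
    simp only [A, Df, Finset.mem_filter, Set.mem_toFinset]; rfl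
  have mC : ∀ e z p, p ∈ C e z ↔ p ∈ com D e z := fun e z p => by
    simp only [C, Finset.mem_filter, mA]; rfl
  have hAcard : ∀ e ∈ D, (A e).card = (A x).card := fun e he => by
    have h1 : ∀ e, (A e).card = (adj D e).ncard := fun e => by
      rw [← Set.ncard_coe_finset]; congr 1; ext z; simpa using mA e z
    rw [h1, h1, ncard_adj_eq h.cls he hx]
  -- the members of a line other than one of its points
  have hfib : ∀ e p, e ∈ D → p ∈ adj D e → ((A p).filter fun z => Commute e z).card = k - 1 := by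
    intro e p he hp
    have e1 : (A p).filter (fun z => Commute e z) = (line D e p).toFinset.erase p := by
      ext z
      simp only [Finset.mem_filter, mA, Finset.mem_erase, Set.mem_toFinset]
      exact ⟨fun ⟨hz, hze⟩ => ⟨hz.2.1, hz.1, hze.symm, hz.2.2.symm⟩,
        fun ⟨hzp, hz⟩ => ⟨⟨hz.1, hzp, hz.2.2.symm⟩, hz.2.1.symm⟩⟩
    rw [e1, Finset.card_erase_of_mem (Set.mem_toFinset.2 (right_mem hp.1 hp.2.2)),
      ← Set.ncard_eq_toFinset_card']
    rw [hk, h.line_card he hp.1 hp.2.1.symm hp.2.2 hx hw.1 hw.2.1.symm hw.2.2]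
  have hAdec : ∀ e z, e ∈ D → z ∈ D → ¬ Commute e z → (A e).card = (C e z).card * (k - 1) := by
    intro e z he hz hez
    have e1 : A e = (C e z).biUnion fun p => (A e).filter fun u => Commute p u := by
      ext u
      simp only [Finset.mem_biUnion, Finset.mem_filter, mA, mC]
      refine ⟨fun hu => ?_, fun ⟨_, _, hu, _⟩ => hu⟩
      obtain ⟨p, hp, hzp⟩ := h.exists_hit he hu.1 hu.2.1.symm hu.2.2 hz
      exact ⟨p, ⟨⟨hp.1, fun e' => hez (e' ▸ hzp).symm, hp.2.1.symm⟩, hzp⟩, hu, hp.2.2⟩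
    conv_lhs => rw [e1]
    rw [Finset.card_biUnion, Finset.sum_const_nat (m := k - 1)]
    · intro p hp
      have hp' := ((mC _ _ _).1 hp).1
      exact hfib p e hp'.1 ⟨he, hp'.2.1.symm, hp'.2.2.symm⟩
    · intro p hp q hq hpq
      rw [Function.onFun, Finset.disjoint_left]
      intro u hu1 hu2
      simp only [Finset.mem_filter, mA] at hu1 hu2
      have hp' := (mC _ _ _).1 (Finset.mem_coe.1 hp)
      have hq' := (mC _ _ _).1 (Finset.mem_coe.1 hq)
      exact h.com_noncomm he hz hez hp' hq' hpq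
        (h.clique he hu1.1.1 hu1.1.2.1.symm hu1.1.2.2 ⟨hp'.1.1, hp'.1.2.2.symm, hu1.2⟩
          ⟨hq'.1.1, hq'.1.2.2.symm, hu2.2⟩)
  have hk1 : 0 < k - 1 := by omega
  have hCx : (C x c).card = m := by
    rw [hm, ← Set.ncard_coe_finset]; congr 1; ext p; simpa using mC x c p
  have hA : ∀ e ∈ D, (A e).card = m * (k - 1) := fun e he => by
    rw [hAcard e he, hAdec x c hx hc hxc, hCx]
  have hCcard : ∀ e z, e ∈ D → z ∈ D → ¬ Commute e z → (C e z).card = m := fun e z he hz hez =>
    Nat.eq_of_mul_eq_mul_right hk1 ((hAdec e z he hz hez).symm.trans (hA e he))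
  -- the members not commuting with x
  let N := Df.filter fun z => ¬ Commute x z
  have mN : ∀ z, z ∈ N ↔ z ∈ D ∧ ¬ Commute x z := fun z => by simp [N, Df]
  have hN : N.card * m = (A x).card * (m * (k - 1) - (k - 1)) := by
    have h1 := Finset.sum_card_bipartiteAbove_eq_sum_card_bipartiteBelow
      (s := A x) (t := N) (r := fun e z => Commute e z)
    rw [Finset.sum_const_nat (m := m * (k - 1) - (k - 1)), Finset.sum_const_nat (m := m)] at h1
    · exact h1.symm
    · intro z hz
      obtain ⟨hzD, hzx⟩ := (mN z).1 hz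
      rw [← hCcard x z hx hzD hzx]
      congr 1
      ext p
      simp only [Finset.bipartiteBelow, Finset.mem_filter, C]
      exact and_congr_right fun _ => ⟨fun e => e.symm, fun e => e.symm⟩
    · intro e he
      have he' := (mA _ _).1 he
      have h2 := Finset.card_filter_add_card_filter_not (s := A e) (fun z => Commute x z)
      rw [hfib x e hx he', hA e he'.1] at h2
      have e1 : Finset.bipartiteAbove (fun e z => Commute e z) N e =
          (A e).filter fun z => ¬ Commute x z := by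
        ext z
        simp only [Finset.bipartiteAbove, Finset.mem_filter, mN, mA]
        exact ⟨fun ⟨⟨hz, hzx⟩, hez⟩ => ⟨⟨hz, fun e' => hzx (e'.symm ▸ he'.2.2), hez⟩, hzx⟩,
          fun ⟨⟨hz, _, hez⟩, hzx⟩ => ⟨⟨hz, hzx⟩, hez⟩⟩
      rw [e1]; omega
  let S := N.filter fun z => ¬ Commute c z
  have hd : S.card + (1 + (m * (k - 1) - m)) = N.card := by
    have h1 := Finset.card_filter_add_card_filter_not (s := N) (fun z => Commute c z)
    have e1 : N.filter (fun z => Commute c z) =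
        insert c ((A c).filter fun z => ¬ Commute x z) := by
      ext z
      simp only [Finset.mem_filter, Finset.mem_insert, mN, mA]
      constructor
      · rintro ⟨⟨hz, hzx⟩, hcz⟩
        rcases eq_or_ne z c with hzc | hzc
        · exact Or.inl hzc
        · exact Or.inr ⟨⟨hz, hzc, hcz⟩, hzx⟩
      · rintro (rfl | ⟨hz, hzx⟩)
        · exact ⟨⟨hc, hxc⟩, Commute.refl _⟩
        · exact ⟨⟨hz.1, hzx⟩, hz.2.2⟩
    have h2 := Finset.card_filter_add_card_filter_not (s := A c) (fun z => Commute x z)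
    have h3 : ((A c).filter fun z => Commute x z).card = m :=
      hCcard c x hc hx fun e => hxc e.symm
    have h4 : c ∉ (A c).filter fun z => ¬ Commute x z := by simp [A]
    rw [e1, Finset.card_insert_of_notMem h4] at h1
    rw [h3, hA c hc] at h2
    show (N.filter fun z => ¬ Commute c z).card + _ = _
    omega
  let t : G → ℕ := fun z => ((C x c).filter fun p => Commute z p).card
  have ht1 : (∑ z ∈ S, t z) + 2 * (m * (k - 1)) = m * (m * (k - 1)) := by
    have h1 := Finset.sum_card_bipartiteAbove_eq_sum_card_bipartiteBelow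
      (s := S) (t := C x c) (r := fun z p => Commute z p)
    have hterm : ∀ p ∈ C x c, (Finset.bipartiteBelow (fun z p => Commute z p) S p).card +
        2 * (k - 1) = m * (k - 1) := by
      intro p hp
      have hp' := (mC _ _ _).1 hp
      have hpD := hp'.1.1
      have h2 := Finset.card_filter_add_card_filter_not (s := A p) (fun z => Commute x z)
      have h3 := Finset.card_filter_add_card_filter_not
        (s := (A p).filter fun z => ¬ Commute x z) (fun z => Commute c z)
      have e1 : ((A p).filter fun z => ¬ Commute x z).filter (fun z => Commute c z) =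
          (A p).filter fun z => Commute c z := by
        ext z
        simp only [Finset.mem_filter, mA]
        refine ⟨fun h' => ⟨h'.1.1, h'.2⟩, fun ⟨hz, hcz⟩ => ⟨⟨hz, fun hxz => ?_⟩, hcz⟩⟩
        have hzx : z ≠ x := fun e => hxc (e ▸ hcz).symm
        exact h.com_noncomm hx hc hxc hp' ⟨⟨hz.1, hzx, hxz⟩, hcz⟩ hz.2.1.symm hz.2.2
      have hcp : p ∈ adj D c :=
        ⟨hpD, fun e => hxc (e ▸ hp'.1.2.2), hp'.2⟩
      rw [hfib x p hx hp'.1, hA p hpD] at h2
      rw [e1, hfib c p hc hcp] at h3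
      have e2 : Finset.bipartiteBelow (fun z p => Commute z p) S p =
          ((A p).filter fun z => ¬ Commute x z).filter fun z => ¬ Commute c z := by
        ext z
        simp only [Finset.bipartiteBelow, Finset.mem_filter, mA, S, mN]
        exact ⟨fun ⟨⟨⟨hz, hzx⟩, hzc⟩, hzp⟩ =>
            ⟨⟨⟨hz, fun e => hzx (e ▸ hp'.1.2.2), hzp.symm⟩, hzx⟩, hzc⟩,
          fun ⟨⟨hz, hzx⟩, hzc⟩ => ⟨⟨⟨hz.1, hzx⟩, hzc⟩, hz.2.2.symm⟩⟩
      rw [e2]; omega
    have h2 := Finset.sum_congr rfl hterm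
    rw [Finset.sum_add_distrib, Finset.sum_const, Finset.sum_const, smul_eq_mul, smul_eq_mul,
      hCx, ← h1] at h2
    rw [show 2 * (m * (k - 1)) = m * (2 * (k - 1)) by ring]
    exact h2
  have ht2 : (∑ z ∈ S, t z * t z) + 2 * (m * (m - 1)) = (∑ z ∈ S, t z) + m * (m * (m - 1)) := by
    have h1 := Finset.sum_card_bipartiteAbove_eq_sum_card_bipartiteBelow
      (s := S) (t := (C x c).offDiag) (r := fun z pq => Commute z pq.1 ∧ Commute z pq.2)
    have hl : ∀ z ∈ S, (Finset.bipartiteAbove (fun z pq => Commute z pq.1 ∧ Commute z pq.2)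
        (C x c).offDiag z).card + t z = t z * t z := by
      intro z _
      have e1 : Finset.bipartiteAbove (fun z pq => Commute z pq.1 ∧ Commute z pq.2)
          (C x c).offDiag z = ((C x c).filter fun p => Commute z p).offDiag := by
        ext ⟨p, q⟩
        simp only [Finset.bipartiteAbove, Finset.mem_filter, Finset.mem_offDiag]
        tauto
      rw [e1, Finset.offDiag_card]
      exact Nat.sub_add_cancel (Nat.le_mul_self _)
    have hr : ∀ pq ∈ (C x c).offDiag, (Finset.bipartiteBelow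
        (fun z pq => Commute z pq.1 ∧ Commute z pq.2) S pq).card + 2 = m := by
      rintro ⟨p, q⟩ hpq
      obtain ⟨hp, hq, hne⟩ := Finset.mem_offDiag.1 hpq
      have hp' := (mC _ _ _).1 hp
      have hq' := (mC _ _ _).1 hq
      have hnc := h.com_noncomm hx hc hxc hp' hq' hne
      have hxT : x ∈ com D p q := ⟨⟨hx, hp'.1.2.1.symm, hp'.1.2.2.symm⟩, hq'.1.2.2.symm⟩
      have hcT : c ∈ com D p q :=
        ⟨⟨hc, fun e => hxc (e ▸ hp'.1.2.2), hp'.2.symm⟩, hq'.2.symm⟩
      have e1 : Finset.bipartiteBelow (fun z pq => Commute z pq.1 ∧ Commute z pq.2) S (p, q) =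
          (C p q) \ {x, c} := by
        ext z
        simp only [Finset.bipartiteBelow, Finset.mem_filter, S, mN, Finset.mem_sdiff, mC,
          Finset.mem_insert, Finset.mem_singleton, not_or]
        constructor
        · rintro ⟨⟨⟨hz, hzx⟩, hzc⟩, hzp, hzq⟩
          exact ⟨⟨⟨hz, fun e => hzx (e ▸ hp'.1.2.2), hzp.symm⟩, hzq.symm⟩,
            fun e => hzx (e ▸ Commute.refl x), fun e => hzc (e ▸ Commute.refl c)⟩
        · rintro ⟨hz, hzx, hzc⟩
          exact ⟨⟨⟨hz.1.1, h.com_noncomm hp'.1.1 hq'.1.1 hnc hxT hz (Ne.symm hzx)⟩,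
            h.com_noncomm hp'.1.1 hq'.1.1 hnc hcT hz (Ne.symm hzc)⟩, hz.1.2.2.symm, hz.2.symm⟩
      have hxc' : x ≠ c := fun e => hxc (e ▸ Commute.refl x)
      have hsub : ({x, c} : Finset G) ⊆ C p q := by
        intro u hu
        simp only [Finset.mem_insert, Finset.mem_singleton] at hu
        rcases hu with rfl | rfl
        exacts [(mC _ _ _).2 hxT, (mC _ _ _).2 hcT]
      have hcp := hCcard p q hp'.1.1 hq'.1.1 hnc
      have hle := Finset.card_le_card hsub
      rw [Finset.card_pair hxc'] at hle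
      rw [e1, Finset.card_sdiff_of_subset hsub, Finset.card_pair hxc']
      omega
    have h2 := Finset.sum_congr rfl hr
    rw [Finset.sum_add_distrib, Finset.sum_const, Finset.sum_const, smul_eq_mul, smul_eq_mul,
      Finset.offDiag_card, hCx, ← h1, ← Nat.mul_sub_one] at h2
    have h3 := Finset.sum_congr rfl hl
    rw [Finset.sum_add_distrib] at h3
    rw [show m * (m * (m - 1)) = m * (m - 1) * m by ring]
    omega
  have hcs := sq_sum_le_card_mul_sum_sq (s := S) (f := t)
  simp only [pow_two] at hcs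
  rw [hA x hx] at hN
  generalize hsd : S.card = d at hcs hd
  generalize (∑ z ∈ S, t z) = T at hcs ht1 ht2
  generalize (∑ z ∈ S, t z * t z) = T2 at hcs ht2
  have hm3 : 3 ≤ m := by
    rw [hj]; calc 3 = 3 ^ 1 := (pow_one 3).symm
      _ ≤ 3 ^ j := Nat.pow_le_pow_right (by norm_num) hj0
  have hN' : N.card = (m - 1) * ((k - 1) * (k - 1)) := by
    have e : m * (k - 1) - (k - 1) = (m - 1) * (k - 1) := by
      rw [Nat.sub_one_mul]
    refine Nat.eq_of_mul_eq_mul_right (show 0 < m by omega) ?_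
    rw [hN, e]; ring
  rw [hN'] at hd
  rcases hks with hk3 | hk5
  · left
    refine ⟨hk3, ?_⟩
    rw [hk3] at hd ht1
    zify [show 1 ≤ m by omega, show m ≤ m * 2 by omega] at hd ht1 ht2 hcs
    have h5 : m ≤ 5 := by
      by_contra hgt
      have hgt' : (6 : ℤ) ≤ m := by omega
      nlinarith [mul_le_mul hgt' hgt' (by norm_num) (by positivity), sq_nonneg ((m : ℤ) - 6)]
    rcases Nat.lt_or_ge j 2 with hj2 | hj2
    · rw [hj, show j = 1 by omega, pow_one]
    · have : 3 ^ 2 ≤ 3 ^ j := Nat.pow_le_pow_right (by norm_num) hj2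
      omega
  · right
    refine ⟨hk5, ?_⟩
    rw [hk5] at hd ht1
    zify [show 1 ≤ m by omega, show m ≤ m * 4 by omega] at hd ht1 ht2 hcs
    have h17 : m ≤ 17 := by
      by_contra hgt
      have hgt' : (18 : ℤ) ≤ m := by omega
      nlinarith [mul_le_mul hgt' hgt' (by norm_num) (by positivity), sq_nonneg ((m : ℤ) - 18)]
    rcases Nat.lt_or_ge j 3 with hj2 | hj2
    · rw [hj]; interval_cases j <;> norm_num
    · have : 3 ^ 3 ≤ 3 ^ j := Nat.pow_le_pow_right (by norm_num) hj2
      omega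

/-- A subgroup containing enough members commuting with `x` is everything. -/
theorem gen_top {x c w : G} (hx : x ∈ D) (hc : c ∈ D) (hxc : ¬ Commute x c) (hw : w ∈ adj D x)
    {K : Subgroup G} (hxK : x ∈ K) (hcK : c ∈ K) (hLK : line D x w ⊆ (K : Set G))
    {T : Set G} (hT : T ⊆ adj D x) (hTK : T ⊆ (K : Set G))
    (hTn : T.Pairwise fun a b => ¬ Commute a b) (hcard : (com D x c).ncard < 3 * T.ncard) :
    K = ⊤ := by
  classical
  have hD := h.set
  have hAK : ∀ a ∈ adj D x, a ∈ K → line D x a ⊆ (K : Set G) := by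
    intro a ha haK e he
    have hwK : w ∈ K := hLK (right_mem hw.1 hw.2.2)
    by_cases haw : Commute a w
    · exact hLK ((h.line_eq hx hw.1 hw.2.1.symm hw.2.2 (left_mem hx hw.2.2)
        ⟨ha.1, ha.2.2.symm, haw⟩ ha.2.1.symm) ▸ he)
    have iw := inv_eq hD hw.1
    have ia := inv_eq hD ha.1
    set e' := a * (w * e * w) * a with he'
    have hgx : Commute (a * w) x := ha.2.2.symm.mul_left hw.2.2.symm
    have h1 : Commute e' x := by
      have := cmap (a * w) he.2.1
      rw [conj_fix hgx] at this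
      simpa [he', mul_assoc, ia, iw] using this
    have h2 : Commute e' w := by
      have := cmap a (cmap w he.2.2)
      rw [iw, ia, ← braid hD ha.1 hw.1 haw] at this
      have e2 : a * (a * w * a) * a = w := by
        simp only [mul_assoc, mul_self hD ha.1, mul_one, mul_self_cancel hD ha.1]
      rwa [e2] at this
    have h3 : e' ∈ K :=
      hLK (⟨conj_mem hD h.conj ha.1 (conj_mem hD h.conj hw.1 he.1), h1, h2⟩ : e' ∈ line D x w)
    have e3 : e = w * (a * e' * a) * w := by
      simp only [he', mul_assoc, mul_self hD ha.1, mul_one, mul_self_cancel hD ha.1,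
        mul_self hD hw.1, mul_self_cancel hD hw.1]
    rw [e3]
    exact K.mul_mem (K.mul_mem hwK (K.mul_mem (K.mul_mem haK h3) haK)) hwK
  obtain ⟨Q, _, _, π, hcube, hiff⟩ := h.local_map hx
  let R : Set Q := π '' {e | e ∈ locSet D x ∧ (e : G) ∈ K}
  have hRE : R ⊆ π '' locSet D x := Set.image_mono fun e he => he.1
  have hRc : ∀ a ∈ R, ∀ b ∈ R, a * b * a ∈ R := by
    rintro _ ⟨a, ⟨ha, haK⟩, rfl⟩ _ ⟨b, ⟨hb, hbK⟩, rfl⟩
    refine ⟨a * b * a, ⟨?_, K.mul_mem (K.mul_mem haK hbK) haK⟩, by rw [map_mul, map_mul]⟩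
    have := (group_of_class (loc_class h.cls h.cores hx (h.adj_ne hx))).2.1 a b hb
    rwa [inv_eq (loc_class h.cls h.cores hx (h.adj_ne hx)).1 ha] at this
  have hwR : π (loc hw) ∈ R := ⟨loc hw, ⟨hw, hLK (right_mem hw.1 hw.2.2)⟩, rfl⟩
  obtain ⟨i, hi⟩ := ncard_closed hcube hRE ⟨_, hwR⟩ hRc
  have hTle : T.ncard ≤ R.ncard := by
    refine Set.ncard_le_ncard_of_injOn (fun a => if ha : a ∈ adj D x then π (loc ha) else 1)
      (fun a ha => ?_) (fun a ha b hb e => ?_) (Set.toFinite _)
    · simp only [dif_pos (hT ha)]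
      exact ⟨_, ⟨loc_mem (hT ha), hTK ha⟩, rfl⟩
    · simp only [dif_pos (hT ha), dif_pos (hT hb)] at e
      by_contra hne
      exact hTn ha hb hne ((hiff a b (hT ha) (hT hb)).1 e)
  have hcomE : (π '' locSet D x).ncard ≤ (com D x c).ncard := by
    refine le_of_le_of_eq (Set.ncard_le_ncard (t := (fun p => if hp : p ∈ adj D x then π (loc hp) else 1) '' com D x c) ?_ (Set.toFinite _))
      (Set.InjOn.ncard_image ?_)
    · rintro _ ⟨d, hd, rfl⟩
      obtain ⟨p, hp, hcp⟩ := h.exists_hit hx hd.1 hd.2.1.symm hd.2.2 hc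
      have hpm : p ∈ adj D x := ⟨hp.1, fun e => hxc (e ▸ hcp).symm, hp.2.1.symm⟩
      exact ⟨p, ⟨hpm, hcp⟩, by simp only [dif_pos hpm]; exact (hiff p d hpm hd).2 hp.2.2⟩
    · intro p hp q hq e
      simp only [dif_pos hp.1, dif_pos hq.1] at e
      by_contra hne
      exact h.com_noncomm hx hc hxc hp hq hne ((hiff p q hp.1 hq.1).1 e)
  obtain ⟨j, hj⟩ := ncard_closed hcube subset_rfl ⟨_, hRE hwR⟩ fun a ha b hb => by
    have := hcube.conj a b hb
    rwa [hcube.inv_eq ha] at this
  have hij : j ≤ i := by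
    by_contra hlt
    have h1 : 3 ^ (i + 1) ≤ 3 ^ j := Nat.pow_le_pow_right (by norm_num) (Nat.lt_of_not_le hlt)
    rw [pow_succ] at h1
    omega
  have hRall : R = π '' locSet D x :=
    Set.eq_of_subset_of_ncard_le hRE (by rw [hi, hj]; exact Nat.pow_le_pow_right (by norm_num) hij)
      (Set.toFinite _)
  refine eq_top_of_contains_local h.cls h.two h.cores h.conn hx hc hxK hcK (fun e he => ?_) hxc
  obtain ⟨a, ⟨ha, haK⟩, hae⟩ : π (loc he) ∈ R := hRall ▸ ⟨_, loc_mem he, rfl⟩
  exact hAK a ha haK ⟨he.1, he.2.2.symm, ((hiff a e ha he).1 hae).symm⟩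

end Geom

end Cfsg.Agent.ThreeTrans.SolvLocal
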