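/-
Three points on a line: the symmetric group of degree six.

Main result: `Geom.equiv_perm_six`.
-/
import Cfsg.Agent.Lib.ThreeTrans.Solvable.Count
import Mathlib.GroupTheory.SpecificGroups.Alternating.Simple

set_option autoImplicit false

namespace Cfsg.Agent.ThreeTrans.SolvLocal

open Cfsg Cfsg.Agent.ThreeTransRank Cfsg.Agent.ThreeTrans

variable {G : Type*} [Group G] {D : Set G} [Finite G]

namespace Geom

/-- A chain `x - c - w` with `y`, `p` as in the frames. -/
theorem exists_start (h : Geom D) :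
    ∃ x c p w, x ∈ D ∧ c ∈ D ∧ ¬ Commute x c ∧ p ∈ com D x c ∧ w ∈ adj D x ∧ w ≠ p ∧
      Commute w p ∧ p ∈ line D x w ∧ ¬ Commute w c ∧ c ∉ line D x w := by
  obtain ⟨x, hx, -⟩ := id h.cls.2.1
  obtain ⟨c, hc, hxc⟩ := exists_not_commute h.cls h.two hx
  obtain ⟨p, hp, hcp⟩ := h.exists_common hx hc hxc
  obtain ⟨w, hw, hwx, hwp⟩ := h.third hx hp.1 hp.2.1.symm hp.2.2
  have hpl : p ∈ line D x w := ⟨hp.1, hp.2.2.symm, hw.2.2.symm⟩
  have hcl : c ∉ line D x w := fun e => hxc e.2.1.symm
  refine ⟨x, c, p, w, hx, hc, hxc, ⟨hp, hcp⟩, ⟨hw.1, hwx, hw.2.1.symm⟩, hwp, hw.2.2, hpl,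
    fun e => hwp ?_, hcl⟩
  exact h.hit_unique hx hw.1 hwx.symm hw.2.1.symm (right_mem hw.1 hw.2.1.symm) hpl hc hcl e.symm hcp

theorem equiv_perm_six (h : Geom D) {x c p w : G} (hx : x ∈ D) (hc : c ∈ D)
    (hxc : ¬ Commute x c) (hp : p ∈ com D x c) (hw : w ∈ adj D x) (hwp : w ≠ p)
    (hwpc : Commute w p) (hpl : p ∈ line D x w) (hwc : ¬ Commute w c) (hcl : c ∉ line D x w)
    (h3 : (line D x w).ncard = 3) (hm : (com D x c).ncard = 3) :
    Nonempty (G ≃* Equiv.Perm (Fin 6)) := by
  have hD := h.set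
  obtain ⟨y, hy, hyp⟩ : ∃ y ∈ com D x c, y ≠ p := by
    by_contra hcon
    push Not at hcon
    have := Set.ncard_le_ncard (s := com D x c) (t := {p}) (fun z hz => hcon z hz) (Set.toFinite _)
    rw [Set.ncard_singleton, hm] at this
    omega
  have hyp' : ¬ Commute y p := h.com_noncomm hx hc hxc hy hp hyp
  have hyw : ¬ Commute y w := fun e => hyp
    (h.hit_unique hx hw.1 hw.2.1.symm hw.2.2 ⟨hy.1.1, hy.1.2.2.symm, e⟩ hpl hc hcl hy.2 hp.2)
  let t : ℕ → G := fun i =>
    if i = 0 then x else if i = 1 then c else if i = 2 then w else if i = 3 then y else p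
  have hbr : BraidA t 5 := by
    refine ⟨fun i hi => ?_, fun i hi => ?_, fun i j h1 h2 => ?_⟩
    · interval_cases i <;>
        simp [t, mul_self hD hx, mul_self hD hc, mul_self hD hw.1, mul_self hD hy.1.1,
          mul_self hD hp.1.1]
    · have hi' : i < 4 := by omega
      interval_cases i
      · simpa [t] using braid hD hx hc hxc
      · simpa [t] using braid hD hc hw.1 fun e => hwc e.symm
      · simpa [t] using braid hD hw.1 hy.1.1 fun e => hyw e.symm
      · simpa [t] using braid hD hy.1.1 hp.1.1 hyp'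
    · have hj : j < 5 := by omega
      have hi' : i < 3 := by omega
      interval_cases i <;> interval_cases j <;>
        first
        | (simpa [t] using hw.2.2)
        | (simpa [t] using hy.1.2.2)
        | (simpa [t] using hp.1.2.2)
        | (simpa [t] using hy.2)
        | (simpa [t] using hp.2)
        | (simpa [t] using hwpc)
  obtain ⟨φ, hφ⟩ := exists_hom_perm hbr
  set K := φ.range with hK
  have mem : ∀ i : Fin 5, t i ∈ K := fun i => ⟨_, hφ i⟩
  have hxK : x ∈ K := mem 0
  have hcK : c ∈ K := mem 1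
  have hwK : w ∈ K := mem 2
  have hyK : y ∈ K := mem 3
  have hpK : p ∈ K := mem 4
  have hLK : line D x w ⊆ (K : Set G) := by
    have hset : ({x, w, p} : Set G) = line D x w := by
      refine Set.eq_of_subset_of_ncard_le ?_ ?_ (Set.toFinite _)
      · rintro z (rfl | rfl | rfl)
        exacts [left_mem hx hw.2.2, right_mem hw.1 hw.2.2, hpl]
      · rw [h3, Set.ncard_insert_of_notMem (by simp [hw.2.1.symm, hp.1.2.1.symm]),
          Set.ncard_pair hwp]
    rw [← hset]
    rintro z (rfl | rfl | rfl)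
    exacts [hxK, hwK, hpK]
  have hwy : w ≠ y := fun e => hyw (e ▸ Commute.refl w)
  have htop : K = ⊤ := by
    refine h.gen_top hx hc hxc hw hxK hcK hLK (T := {w, y}) ?_ ?_ ?_ ?_
    · rintro z (rfl | rfl)
      exacts [hw, hy.1]
    · rintro z (rfl | rfl)
      exacts [hwK, hyK]
    · rintro u (rfl | rfl) v (rfl | rfl) huv
      exacts [absurd rfl huv, fun e => hyw e.symm, hyw, absurd rfl huv]
    · rw [hm, Set.ncard_pair hwy]; norm_num
  have hinj : Function.Injective φ := by
    rw [← MonoidHom.ker_eq_bot_iff]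
    by_contra hne
    have : Nontrivial φ.ker := (Subgroup.nontrivial_iff_ne_bot _).2 hne
    have hle := Equiv.Perm.alternatingGroup_le_of_normal (α := Fin 6) (by simp) this
    have hmem : (Equiv.swap (0 : Fin 6) 1 * Equiv.swap 1 2) ∈ φ.ker :=
      hle (by rw [Equiv.Perm.mem_alternatingGroup]; decide +kernel)
    rw [MonoidHom.mem_ker, map_mul] at hmem
    have e0 : φ (Equiv.swap 0 1) = x := hφ 0
    have e1 : φ (Equiv.swap 1 2) = c := hφ 1
    rw [e0, e1, mul_eq_one_iff_eq_inv, inv_eq hD hc] at hmem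
    exact hxc (hmem ▸ Commute.refl x)
  exact ⟨(MulEquiv.ofBijective φ ⟨hinj, MonoidHom.range_eq_top.1 htop⟩).symm⟩

end Geom

end Cfsg.Agent.ThreeTrans.SolvLocal
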