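/-
Five points on a line: generators satisfying the relators of the coset certificates.

Main results: `Geom.exists_gens_four`, `Geom.exists_gens_five`.
-/
import Cfsg.Agent.Lib.ThreeTrans.Solvable.Sym
import Cfsg.Agent.Lib.ThreeTrans.Solvable.CosetData

set_option autoImplicit false

namespace Cfsg.Agent.ThreeTrans.SolvLocal

open Cfsg Cfsg.Agent.ThreeTransRank Cfsg.Agent.ThreeTrans

variable {G : Type*} [Group G] {D : Set G}

/-- Five points on the line through `x` and `w`; `p` and `y` commute with `c`. -/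
structure Frame (D : Set G) (x c p w v f y : G) : Prop where
  hx : x ∈ D
  hc : c ∈ D
  hxc : ¬ Commute x c
  hp : p ∈ com D x c
  hy : y ∈ com D x c
  hyp : y ≠ p
  hw : w ∈ adj D x
  mp : p ∈ line D x w
  mv : v ∈ line D x w
  mf : f ∈ line D x w
  wp : w ≠ p
  vx : v ≠ x
  vw : v ≠ w
  vp : v ≠ p
  fx : f ≠ x
  fw : f ≠ w
  fv : f ≠ v
  fp : f ≠ p
  all : ∀ e ∈ line D x w, e = x ∨ e = w ∨ e = v ∨ e = f ∨ e = p
  prod : x * w * v * f * p = 1
  word : f = c * v * w * c * x * c * w * v * c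

theorem ev_two {x y : G} {el : ℕ → G} {i j : ℕ} (hi : el i = x) (hj : el j = y)
    (hxx : x * x = 1) (hyy : y * y = 1) (h : Commute x y) : ev el [i, j, i, j] = 1 := by
  show ((((1 : G) * el j) * el i) * el j) * el i = 1
  rw [hi, hj, one_mul, mul_assoc (y * x), mul_assoc y, ← mul_assoc x y x, h.eq, mul_assoc y x x,
    hxx, mul_one, hyy]

theorem ev_three {x y : G} {el : ℕ → G} {i j : ℕ} (hi : el i = x) (hj : el j = y)
    (h : (y * x) ^ 3 = 1) : ev el [i, j, i, j, i, j] = 1 := by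
  show ((((((1 : G) * el j) * el i) * el j) * el i) * el j) * el i = 1
  rw [hi, hj, one_mul, ← h]
  simp only [pow_succ, pow_zero, one_mul, mul_assoc]

variable [Finite G]

namespace Geom

theorem com_cube (h : Geom D) {x c a b : G} (hx : x ∈ D) (hc : c ∈ D) (hxc : ¬ Commute x c)
    (ha : a ∈ com D x c) (hb : b ∈ com D x c) : (a * b) ^ 3 = 1 := by
  rcases eq_or_ne a b with rfl | hne
  · rw [mul_self h.set ha.1.1, one_pow]
  · exact pow_three_of_not_commute h.set ha.1.1 hb.1.1 (h.com_noncomm hx hc hxc ha hb hne)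

theorem com_conj (h : Geom D) {x c g a : G} (hgx : Commute g x) (hgc : Commute g c)
    (ha : a ∈ com D x c) : g * a * g⁻¹ ∈ com D x c := by
  refine ⟨⟨h.conj g a ha.1.1, fun e => ha.1.2.1 ?_, ?_⟩, ?_⟩
  · rw [← conj_fix hgx] at e
    exact mul_left_cancel (mul_right_cancel e)
  · simpa [conj_fix hgx] using cmap g ha.1.2.2
  · simpa [conj_fix hgc] using cmap g ha.2

theorem exists_frame (h : Geom D) {x c p w v y : G} (hx : x ∈ D) (hc : c ∈ D)
    (hxc : ¬ Commute x c) (hp : p ∈ com D x c) (hy : y ∈ com D x c) (hyp : y ≠ p)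
    (hw : w ∈ adj D x) (hwp : w ≠ p) (mp : p ∈ line D x w) (mv : v ∈ line D x w) (hvx : v ≠ x)
    (hvw : v ≠ w) (hvp : v ≠ p) : ∃ f, Frame D x c p w v f y := by
  have hD := h.set
  have cl := fun {i j : G} (hi : i ∈ line D x w) (hj : j ∈ line D x w) =>
    h.clique hx hw.1 hw.2.1.symm hw.2.2 hi hj
  have mx : x ∈ line D x w := Geom.left_mem hx hw.2.2
  have mw : w ∈ line D x w := Geom.right_mem hw.1 hw.2.2
  obtain ⟨f, hf, ⟨f1, f2, f3, f4⟩, hall, hprod⟩ := h.five_line hp.1.1 hx hw.1 mv.1 hp.1.2.2.symm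
    (cl mp mw) (cl mp mv) hw.2.2 (cl mx mv) (cl mw mv) hp.1.2.1 hwp.symm hvp.symm hw.2.1.symm
    hvx.symm hvw.symm
  have hline : line D p x = line D x w :=
    h.line_eq hx hw.1 hw.2.1.symm hw.2.2 mp mx hp.1.2.1
  rw [hline] at hf hall
  have hcl : c ∉ line D x w := fun e => hxc e.2.1.symm
  have huniq : ∀ {i : G}, i ∈ line D x w → Commute c i → i = p := fun {i} hi hci =>
    h.hit_unique hx hw.1 hw.2.1.symm hw.2.2 hi mp hc hcl hci hp.2
  have hcw : ¬ Commute c w := fun e => hwp (huniq mw e)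
  have hcv : ¬ Commute c v := fun e => hvp (huniq mv e)
  have hcx : ¬ Commute c x := fun e => hxc e.symm
  obtain ⟨hgD, ⟨hgx, hgnx⟩, ⟨hgw, hgnw⟩, hgv, hgnv⟩ := fifth hD h.conj hx hw.1 mv.1 hc hw.2.2
    (cl mx mv) (cl mw mv) hw.2.1.symm hvx.symm hvw.symm hcx hcw hcv rfl
  set f' := c * (x * w * v) * c * (c * (x * w * v))⁻¹ with hf'
  have mf' : f' ∈ line D x w := ⟨hgD, hgx, hgw⟩
  have hf'p : f' ≠ p := by
    intro e
    have hfix : Commute (c * (x * w * v)) p :=
      hp.2.mul_left (((cl mx mp).mul_left (cl mw mp)).mul_left (cl mv mp))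
    have e2 : c * (x * w * v) * c * (c * (x * w * v))⁻¹ =
        c * (x * w * v) * p * (c * (x * w * v))⁻¹ := by rw [← hf', e, conj_fix hfix]
    exact hcl (mul_left_cancel (mul_right_cancel e2) ▸ mp)
  have heq : f' = f := by
    rcases hall f' mf' with e | e | e | e | e
    exacts [absurd e hf'p, absurd e hgnx, absurd e hgnw, absurd e hgnv, e]
  refine ⟨f, hx, hc, hxc, hp, hy, hyp, hw, mp, mv, hf, hwp, hvx, hvw, hvp, f2, f3, f4, f1,
    fun e he => ?_, hprod, ?_⟩
  · rcases hall e he with rfl | rfl | rfl | rfl | rfl <;> simp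
  rw [← heq, hf']
  have e3 : x * w * v = v * w * x := by
    rw [hw.2.2.eq, mul_assoc, (cl mx mv).eq, ← mul_assoc, (cl mw mv).eq]
  have ix := inv_eq hD hx
  calc c * (x * w * v) * c * (c * (x * w * v))⁻¹ = c * (x * w * v) * c * (v * w * x) * c := by
        rw [mul_inv_rev, mul_inv_rev, mul_inv_rev, ix, inv_eq hD hw.1, inv_eq hD mv.1,
          inv_eq hD hc]
        simp only [mul_assoc]
    _ = c * (v * w * x) * c * (x * w * v) * c := by rw [e3]
    _ = c * (v * w) * (x * c * x) * (w * v) * c := by simp only [mul_assoc]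
    _ = c * v * w * c * x * c * w * v * c := by
        rw [← braid hD hc hx hcx]; simp only [mul_assoc]

end Geom

namespace Frame

variable {x c p w v f y : G}

theorem mx (F : Frame D x c p w v f y) : x ∈ line D x w := Geom.left_mem F.hx F.hw.2.2

theorem mw (F : Frame D x c p w v f y) : w ∈ line D x w := Geom.right_mem F.hw.1 F.hw.2.2

theorem cl (F : Frame D x c p w v f y) (h : Geom D) {i j : G} (hi : i ∈ line D x w)
    (hj : j ∈ line D x w) : Commute i j :=
  h.clique F.hx F.hw.1 F.hw.2.1.symm F.hw.2.2 hi hj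

/-- A member commuting with `x` and `c`, other than `p`, commutes with no other point of the line. -/
theorem off (F : Frame D x c p w v f y) (h : Geom D) {u i : G} (hu : u ∈ com D x c) (hup : u ≠ p)
    (hi : i ∈ line D x w) (hix : i ≠ x) : ¬ Commute u i := fun e => hup <| by
  have hul := h.mem_of_two F.hx F.hw.1 F.hw.2.1.symm F.hw.2.2 F.mx hi hix.symm hu.1.1
    hu.1.2.2.symm e
  exact h.hit_unique F.hx F.hw.1 F.hw.2.1.symm F.hw.2.2 hul F.mp F.hc
    (fun e => F.hxc e.2.1.symm) hu.2 F.hp.2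

theorem c_off (F : Frame D x c p w v f y) (h : Geom D) {i : G} (hi : i ∈ line D x w)
    (hip : i ≠ p) : ¬ Commute c i := fun e =>
  hip (h.hit_unique F.hx F.hw.1 F.hw.2.1.symm F.hw.2.2 hi F.mp F.hc (fun e => F.hxc e.2.1.symm)
    e F.hp.2)

/-- The generators. -/
def gen (_ : Frame D x c p w v f y) (z : G) : ℕ → G := fun i =>
  if i = 0 then x else if i = 1 then c else if i = 2 then w else if i = 3 then y
  else if i = 4 then v else z

theorem t1 (F : Frame D x c p w v f y) (h : Geom D) : ¬ Commute (y * (w * c * w) * y) v := by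
  intro e
  have hD := h.set
  have hq := conj_mem hD h.conj F.hy.1.1 (conj_mem hD h.conj F.hw.1 F.hc)
  have h7 := string_fact' hD F.hy.1.1 F.hw.1 F.hc F.hy.2.symm
    (F.off h F.hy F.hyp F.mw F.hw.2.1) (fun e' => F.c_off h F.mw F.wp e'.symm)
  have hqL := h.mem_of_two F.hx F.hw.1 F.hw.2.1.symm F.hw.2.2 F.mw F.mv F.vw.symm hq h7.symm e
  have h8 := cmap w (cmap y hqL.2.1)
  rw [inv_eq hD F.hy.1.1, conj_conj_of_commute hD F.hy.1.1 F.hy.1.2.2.symm, inv_eq hD F.hw.1,
    conj_conj_of_commute hD F.hw.1 F.hw.2.2.symm] at h8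
  apply F.hxc
  have h9 : Commute c x := by
    simpa [mul_assoc, mul_self hD F.hy.1.1, mul_self_cancel hD F.hy.1.1, mul_self hD F.hw.1,
      mul_self_cancel hD F.hw.1] using h8
  exact h9.symm

theorem mul_swap (F : Frame D x c p w v f y) (h : Geom D) :
    v * w = x * f * p ∧ v * f = x * w * p := by
  have hD := h.set
  have c1 := F.cl h F.mx F.mp
  have c2 := F.cl h F.mf F.mp
  have key : ∀ t t' : G, t ∈ line D x w → t' ∈ line D x w → x * t * v * t' * p = 1 →
      v * t = x * t' * p := by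
    intro t t' ht ht' e
    have e1 : x * (t * v) * (t' * p) = 1 := by rw [← e]; simp only [mul_assoc]
    calc v * t = x * (x * (t * v) * (t' * p)) * (p * t') := by
          rw [(F.cl h F.mv ht).eq]
          simp only [mul_assoc, mul_self_cancel hD F.hx, mul_self_cancel hD F.mp.1,
            mul_self hD ht'.1, mul_one]
      _ = x * t' * p := by rw [e1, mul_one, (F.cl h F.mp ht').eq, mul_assoc]
  refine ⟨key w f F.mw F.mf F.prod, key f w F.mf F.mw ?_⟩
  calc x * f * v * w * p = x * (f * (v * w)) * p := by simp only [mul_assoc]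
    _ = x * (w * v * f) * p := by
        rw [((F.cl h F.mf F.mv).mul_right (F.cl h F.mf F.mw)).eq, (F.cl h F.mv F.mw).eq]
    _ = 1 := by rw [← F.prod]; simp only [mul_assoc]

/-- The reflection rule. -/
theorem rule (F : Frame D x c p w v f y) (h : Geom D) {u t t' : G} (hu : u ∈ com D x c)
    (hup : u ≠ p) (ht : t ∈ line D x w) (htx : t ≠ x) (ht' : t' ∈ line D x w) (ht'x : t' ≠ x)
    (e : v * t = x * t' * p) :
    v * (u * t * u) * v = p * (u * t' * u) * p := by
  have hD := h.set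
  calc v * (u * t * u) * v = v * (t * u * t) * v := by
        rw [braid hD hu.1.1 ht.1 (F.off h hu hup ht htx)]
    _ = v * t * u * (v * t) := by
          conv_rhs => arg 2; rw [(F.cl h F.mv ht).eq]
          simp only [mul_assoc]
    _ = x * t' * p * u * (x * t' * p) := by rw [e]
    _ = t' * p * (x * u * x) * (t' * p) := by
        rw [(F.cl h F.mx ht').eq, mul_assoc t' x p, (F.cl h F.mx F.mp).eq]
        calc t' * (p * x) * u * (t' * (p * x)) = t' * p * (x * u) * (t' * p * x) := by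
              simp only [mul_assoc]
          _ = _ := by
              rw [show t' * p * x = x * (t' * p) from
                ((F.cl h ht' F.mx).mul_left (F.cl h F.mp F.mx)).eq]
              simp only [mul_assoc]
    _ = p * (t' * u * t') * p := by
        rw [conj_conj_of_commute hD F.hx hu.1.2.2, ← mul_assoc (t' * p * u) t' p]
        conv_lhs => rw [(F.cl h ht' F.mp).eq]
        simp only [mul_assoc]
    _ = p * (u * t' * u) * p := by rw [braid hD hu.1.1 ht'.1 (F.off h hu hup ht' ht'x)]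

theorem rels_four (F : Frame D x c p w v f y) (h : Geom D) (z : G) :
    (∀ a < 5, F.gen z a * F.gen z a = 1) ∧ ∀ r ∈ certFour.rels, ev (F.gen z) r = 1 := by
  have hD := h.set
  refine ⟨fun a ha => ?_, fun r hr => ?_⟩
  · interval_cases a
    exacts [mul_self hD F.hx, mul_self hD F.hc, mul_self hD F.hw.1, mul_self hD F.hy.1.1,
      mul_self hD F.mv.1]
  have sx := mul_self hD F.hx
  have sc := mul_self hD F.hc
  have sw := mul_self hD F.hw.1
  have sy := mul_self hD F.hy.1.1
  have sv := mul_self hD F.mv.1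
  have p3 : ∀ a b : G, a ∈ D → b ∈ D → ¬ Commute a b → (a * b) ^ 3 = 1 :=
    fun a b ha hb hn => pow_three_of_not_commute hD ha hb hn
  simp only [certFour, List.mem_cons, List.not_mem_nil, or_false] at hr
  rcases hr with rfl | rfl | rfl | rfl | rfl | rfl | rfl | rfl | rfl | rfl | rfl
  · exact ev_three (x := x) (y := c) rfl rfl (p3 c x F.hc F.hx fun e => F.hxc e.symm)
  · exact ev_two (x := x) (y := w) rfl rfl sx sw F.hw.2.2
  · exact ev_two (x := x) (y := y) rfl rfl sx sy F.hy.1.2.2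
  · exact ev_two (x := x) (y := v) rfl rfl sx sv F.mv.2.1.symm
  · exact ev_three (x := c) (y := w) rfl rfl
      (p3 w c F.hw.1 F.hc fun e => F.c_off h F.mw F.wp e.symm)
  · exact ev_two (x := c) (y := y) rfl rfl sc sy F.hy.2
  · exact ev_three (x := c) (y := v) rfl rfl
      (p3 v c F.mv.1 F.hc fun e => F.c_off h F.mv F.vp e.symm)
  · exact ev_three (x := w) (y := y) rfl rfl
      (p3 y w F.hy.1.1 F.hw.1 (F.off h F.hy F.hyp F.mw F.hw.2.1))
  · exact ev_two (x := w) (y := v) rfl rfl sw sv F.mv.2.2.symm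
  · exact ev_three (x := y) (y := v) rfl rfl
      (p3 v y F.mv.1 F.hy.1.1 fun e => F.off h F.hy F.hyp F.mv F.vx e.symm)
  · rw [← p3 _ _ (conj_mem hD h.conj F.hy.1.1 (conj_mem hD h.conj F.hw.1 F.hc)) F.mv.1 (F.t1 h)]
    simp only [ev, gen, reduceIte, Nat.succ_ne_self, OfNat.ofNat_ne_zero, OfNat.ofNat_ne_one,
      one_ne_zero, one_mul, pow_succ, pow_zero, mul_assoc, show (4 : ℕ) ≠ 2 by decide,
      show (4 : ℕ) ≠ 3 by decide, show (3 : ℕ) ≠ 2 by decide]

theorem line_subset (F : Frame D x c p w v f y) (h : Geom D) {K : Subgroup G} (hx : x ∈ K)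
    (hc : c ∈ K) (hw : w ∈ K) (hv : v ∈ K) : line D x w ⊆ (K : Set G) := by
  have hf : f ∈ K := by
    rw [F.word]
    exact K.mul_mem (K.mul_mem (K.mul_mem (K.mul_mem (K.mul_mem (K.mul_mem (K.mul_mem (K.mul_mem
      hc hv) hw) hc) hx) hc) hw) hv) hc
  have hp : p ∈ K := by
    have e : p = (x * w * v * f)⁻¹ := eq_inv_of_mul_eq_one_right F.prod
    rw [e]
    exact K.inv_mem (K.mul_mem (K.mul_mem (K.mul_mem hx hw) hv) hf)
  intro e he
  rcases F.all e he with rfl | rfl | rfl | rfl | rfl <;> assumption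

theorem gen_four (F : Frame D x c p w v f y) (h : Geom D) (z : G)
    (hm : (com D x c).ncard = 3) : Subgroup.closure (F.gen z '' {a | a < 5}) = ⊤ := by
  set K := Subgroup.closure (F.gen z '' {a | a < 5})
  have mem : ∀ a < 5, F.gen z a ∈ K := fun a ha => Subgroup.subset_closure ⟨a, ha, rfl⟩
  have hyw := F.off h F.hy F.hyp F.mw F.hw.2.1
  have hwy : w ≠ y := fun e => hyw (e ▸ Commute.refl w)
  refine h.gen_top F.hx F.hc F.hxc F.hw (mem 0 (by norm_num)) (mem 1 (by norm_num))
    (F.line_subset h (mem 0 (by norm_num)) (mem 1 (by norm_num)) (mem 2 (by norm_num))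
      (mem 4 (by norm_num))) (T := {w, y}) ?_ ?_ ?_ ?_
  · rintro u (rfl | rfl)
    exacts [F.hw, F.hy.1]
  · rintro u (rfl | rfl)
    exacts [mem 2 (by norm_num), mem 3 (by norm_num)]
  · rintro a (rfl | rfl) b (rfl | rfl) hab
    exacts [absurd rfl hab, fun e => hyw e.symm, hyw, absurd rfl hab]
  · rw [hm, Set.ncard_pair hwy]; norm_num

/-- `[y p, z p]`. -/
def comm (_ : Frame D x c p w v f y) (z : G) : G := y * p * (z * p) * (y * p)⁻¹ * (z * p)⁻¹

theorem comm_facts (F : Frame D x c p w v f y) (h : Geom D) {z : G} (hz : z ∈ com D x c) :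
    Commute (F.comm z) (y * p) ∧ Commute (F.comm z) (z * p) ∧ Commute (F.comm z) p ∧
      F.comm z ^ 3 = 1 ∧ Commute (F.comm z) x := by
  have hD := h.set
  have hpD := F.hp.1.1
  have ip := inv_eq hD hpD
  have conjp : ∀ a ∈ com D x c, p * a * p ∈ com D x c := fun a ha => by
    have := h.com_conj F.hp.1.2.2.symm F.hp.2.symm ha
    rwa [ip] at this
  have cube := fun {a b : G} (ha : a ∈ com D x c) (hb : b ∈ com D x c) =>
    h.com_cube F.hx F.hc F.hxc ha hb
  set A := y * p with hA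
  set B := z * p with hB
  set C := F.comm z with hC
  have hCdef : C = A * B * A⁻¹ * B⁻¹ := rfl
  have hA3 : A ^ 3 = 1 := cube F.hy F.hp
  have hB3 : B ^ 3 = 1 := cube hz F.hp
  have hAB : (A * B) ^ 3 = 1 := by
    have := cube F.hy (conjp z hz)
    simpa [hA, hB, mul_assoc] using this
  have hBA : (B * A) ^ 3 = 1 := by
    have := cube hz (conjp y F.hy)
    simpa [hA, hB, mul_assoc] using this
  have hinv : ∀ a b : G, a ∈ com D x c → b ∈ com D x c → ((a * p)⁻¹ * (b * p)) ^ 3 = 1 := by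
    intro a b ha hb
    have e : (a * p)⁻¹ * (b * p) = p * (a * b) * p⁻¹ := by
      rw [mul_inv_rev, ip, inv_eq hD ha.1.1]; simp only [mul_assoc]
    rw [e, conj_pow, cube ha hb, mul_one, mul_inv_cancel]
  have cA : Commute C A := by
    have h1 := commute_conj_of_cubes (x := A) (y := B) hB3 hAB (hinv y z F.hy hz)
    have h2 : Commute A (B * A * B⁻¹ * A⁻¹) := h1.mul_right (Commute.refl A).inv_right
    have e : B * A * B⁻¹ * A⁻¹ = C⁻¹ := by rw [hCdef]; group
    rw [e] at h2
    exact (Commute.inv_right_iff.1 h2).symm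
  have cB : Commute C B := by
    have h1 := commute_conj_of_cubes (x := B) (y := A) hA3 hBA (hinv z y hz F.hy)
    exact (hCdef ▸ h1.mul_right (Commute.refl B).inv_right).symm
  refine ⟨cA, cB, ?_, ?_, ?_⟩
  · apply commute_of_fix' hD hpD
    have pA : p * A * p⁻¹ = A⁻¹ := by
      rw [hA, mul_inv_rev, inv_eq hD F.hy.1.1, ip]
      simp only [mul_assoc, mul_self hD hpD, mul_one]
    have pB : p * B * p⁻¹ = B⁻¹ := by
      rw [hB, mul_inv_rev, inv_eq hD hz.1.1, ip]
      simp only [mul_assoc, mul_self hD hpD, mul_one]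
    calc p * C * p⁻¹ = (p * A * p⁻¹) * (p * B * p⁻¹) * (p * A * p⁻¹)⁻¹ * (p * B * p⁻¹)⁻¹ := by
          rw [hCdef]; group
      _ = A⁻¹ * B⁻¹ * (C * B * A) := by rw [pA, pB, hCdef]; group
      _ = A⁻¹ * B⁻¹ * (B * A * C) := by
          rw [show C * B * A = B * A * C by
            rw [cB.eq, mul_assoc, cA.eq, ← mul_assoc]]
      _ = C := by group
  · have hc2 : Commute C (B * A) := cB.mul_right cA
    have e : A * B = C * (B * A) := by rw [hCdef]; group
    rw [e, hc2.mul_pow, hBA, mul_one] at hAB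
    exact hAB
  · have hAx : Commute A x := F.hy.1.2.2.symm.mul_left F.hp.1.2.2.symm
    have hBx : Commute B x := hz.1.2.2.symm.mul_left F.hp.1.2.2.symm
    exact ((hAx.mul_left hBx).mul_left hAx.inv_left).mul_left hBx.inv_left
where
  commute_of_fix' {D : Set G} {a b : G} (_ : IsThreeTranspositionSet D) (_ : a ∈ D)
      (e : a * b * a⁻¹ = b) : Commute b a := (commute_of_fix e).symm

theorem r_two (F : Frame D x c p w v f y) (h : Geom D) {z : G} (hz : z ∈ com D x c)
    (hzy : z ≠ y) (hCv : F.comm z * w * (F.comm z)⁻¹ ≠ v) :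
    z * v * y * z * w * z * y * v * z = y * f * y := by
  have hD := h.set
  have hpD := F.hp.1.1
  have ip := inv_eq hD hpD
  have iy := inv_eq hD F.hy.1.1
  have iz := inv_eq hD hz.1.1
  obtain ⟨cA, cB, cp, hC3, hCx⟩ := F.comm_facts h hz
  set C := F.comm z with hC
  set A := y * p with hA
  set B := z * p with hB
  have hCdef : C = A * B * A⁻¹ * B⁻¹ := rfl
  have hA3 : A ^ 3 = 1 := h.com_cube F.hx F.hc F.hxc F.hy F.hp
  have hB3 : B ^ 3 = 1 := h.com_cube F.hx F.hc F.hxc hz F.hp
  have hA2 : A⁻¹ * A⁻¹ = A := by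
    calc A⁻¹ * A⁻¹ = A⁻¹ * A⁻¹ * A ^ 3 := by rw [hA3, mul_one]
      _ = A := by group
  have hA2' : A * A = A⁻¹ := by
    rw [eq_inv_iff_mul_eq_one, ← hA3, pow_succ, pow_two]
  have hB2 : B⁻¹ * B⁻¹ = B := by
    calc B⁻¹ * B⁻¹ = B⁻¹ * B⁻¹ * B ^ 3 := by rw [hB3, mul_one]
      _ = B := by group
  have hzy' : z * y = B * A⁻¹ := by
    rw [hA, hB, mul_inv_rev, iy, ip]; simp only [mul_assoc, mul_self_cancel hD hpD]
  have hyz' : y * z = A * B⁻¹ := by
    rw [hA, hB, mul_inv_rev, iz, ip]; simp only [mul_assoc, mul_self_cancel hD hpD]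
  have pA : p * A = A⁻¹ * p := by
    rw [hA, mul_inv_rev, iy, ip]; simp only [mul_assoc]
  have pAi : p * A⁻¹ = A * p := by
    rw [hA, mul_inv_rev, iy, ip]
    simp only [mul_assoc, mul_self_cancel hD hpD, mul_self hD hpD, mul_one]
  have pB : p * B⁻¹ = B * p := by
    rw [hB, mul_inv_rev, iz, ip]
    simp only [mul_assoc, mul_self_cancel hD hpD, mul_self hD hpD, mul_one]
  have pB' : p * B = B⁻¹ * p := by
    rw [hB, mul_inv_rev, iz, ip]; simp only [mul_assoc]
  set u := z * y * p * y * z with hu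
  have hucom : u ∈ com D x c := by
    have := h.com_conj (hz.1.2.2.symm.mul_left F.hy.1.2.2.symm) (hz.2.symm.mul_left F.hy.2.symm) F.hp
    rw [mul_inv_rev, iz, iy, ← mul_assoc] at this
    exact this
  have hup : u ≠ p := by
    intro e
    apply hzy
    have h1 : p * (z * y) = z * y * p := by
      calc p * (z * y) = u * (z * y) := by rw [e]
        _ = z * y * p := by
            rw [hu]; simp only [mul_assoc, mul_self_cancel hD hz.1.1, mul_self hD F.hy.1.1, mul_one]
    rw [hzy', ← mul_assoc, pB', mul_assoc, pAi, ← mul_assoc] at h1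
    have h2 : B⁻¹ * A = B * A⁻¹ := mul_right_cancel h1
    have h3 : A * A = B * B := by
      calc A * A = B * (B⁻¹ * A) * A := by group
        _ = B * (B * A⁻¹) * A := by rw [h2]
        _ = B * B := by group
    have h4 : A⁻¹ = B⁻¹ := by
      rw [← hA2', h3, eq_inv_iff_mul_eq_one, ← hB3, pow_succ, pow_two]
    exact (mul_right_cancel (inv_inj.1 h4)).symm
  have hπ : u * (y * z) = C * p := by
    calc u * (y * z) = z * y * p * (y * z * (y * z)) := by rw [hu]; simp only [mul_assoc]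
      _ = B * A⁻¹ * p * (A * B⁻¹ * (A * B⁻¹)) := by rw [hzy', hyz']
      _ = B * A⁻¹ * (p * A) * B⁻¹ * A * B⁻¹ := by simp only [mul_assoc]
      _ = B * A⁻¹ * A⁻¹ * (p * B⁻¹) * A * B⁻¹ := by rw [pA]; simp only [mul_assoc]
      _ = B * A⁻¹ * A⁻¹ * B * (p * A) * B⁻¹ := by rw [pB]; simp only [mul_assoc]
      _ = B * (A⁻¹ * A⁻¹) * B * A⁻¹ * (p * B⁻¹) := by rw [pA]; simp only [mul_assoc]
      _ = B * (A * B * A⁻¹) * B * p := by rw [hA2, pB]; simp only [mul_assoc]
      _ = (B * C) * B * B * p := by rw [hCdef]; group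
      _ = C * (B * B * B) * p := by rw [← cB.eq]; simp only [mul_assoc]
      _ = C * p := by
          rw [show B * B * B = B ^ 3 by rw [pow_succ, pow_two], hB3, mul_one]
  have hπ' : y * z * p * u = C := by
    calc y * z * p * u = y * z * p * (z * y) * p * (y * z) := by rw [hu]; simp only [mul_assoc]
      _ = A * B⁻¹ * p * (B * A⁻¹) * p * (A * B⁻¹) := by rw [hzy', hyz']
      _ = A * B⁻¹ * (p * B) * A⁻¹ * p * (A * B⁻¹) := by simp only [mul_assoc]
      _ = A * B⁻¹ * B⁻¹ * (p * A⁻¹) * p * (A * B⁻¹) := by rw [pB']; simp only [mul_assoc]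
      _ = A * (B⁻¹ * B⁻¹) * A * (p * p) * (A * B⁻¹) := by rw [pAi]; simp only [mul_assoc]
      _ = A * B * (A * A) * B⁻¹ := by
          rw [hB2, mul_self hD hpD, mul_one]; simp only [mul_assoc]
      _ = C := by rw [hA2', hCdef]
  have hwp : Commute p w := F.mp.2.2
  have hCL : ∀ t, t ∈ line D x w → C * t * C⁻¹ ∈ line D x w := by
    intro t ht
    have h1 : Commute (C * t * C⁻¹) x := by
      have := cmap C ht.2.1; rwa [conj_fix hCx] at this
    have h2 : Commute (C * t * C⁻¹) p := by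
      have := cmap C (F.cl h ht F.mp); rwa [conj_fix cp] at this
    exact h.mem_of_two F.hx F.hw.1 F.hw.2.1.symm F.hw.2.2 F.mx F.mp F.hp.1.2.1.symm
      (h.conj _ t ht.1) h1 h2
  have hinjC : ∀ {s t : G}, C * s * C⁻¹ = C * t * C⁻¹ → s = t := fun e =>
    mul_left_cancel (mul_right_cancel e)
  set t := C * w * C⁻¹ with ht
  have htm := hCL w F.mw
  have htx : t ≠ x := fun e => F.hw.2.1 (hinjC (e.trans (conj_fix hCx).symm))
  have htp : t ≠ p := fun e => F.wp (hinjC (e.trans (conj_fix cp).symm))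
  have htc : t = w ∨ t = f := by
    rcases F.all t htm with e | e | e | e | e
    exacts [absurd e htx, Or.inl e, absurd e hCv, Or.inr e, absurd e htp]
  obtain ⟨e1, e2⟩ := F.mul_swap h
  obtain ⟨t', ht', ht'x, hswap, htarget⟩ : ∃ t', t' ∈ line D x w ∧ t' ≠ x ∧
      v * t = x * t' * p ∧ C * t' * C⁻¹ = f := by
    rcases htc with e | e
    · refine ⟨f, F.mf, F.fx, by rw [e, e1], ?_⟩
      rcases F.all _ (hCL f F.mf) with e' | e' | e' | e' | e'
      · exact absurd (hinjC (e'.trans (conj_fix hCx).symm)) F.fx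
      · exact absurd (hinjC (e'.trans e.symm)) F.fw
      · exfalso
        rcases F.all _ (hCL v F.mv) with e'' | e'' | e'' | e'' | e''
        · exact F.vx (hinjC (e''.trans (conj_fix hCx).symm))
        · exact F.vw (hinjC (e''.trans e.symm))
        · exact F.fv (hinjC (e'.trans e''.symm))
        · apply F.fv
          calc f = C ^ 3 * f * (C ^ 3)⁻¹ := by rw [hC3]; simp
            _ = C * (C * (C * f * C⁻¹) * C⁻¹) * C⁻¹ := by
                simp only [pow_succ, pow_zero, one_mul, mul_inv_rev, mul_assoc]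
            _ = v := by rw [e', e'', e']
        · exact F.vp (hinjC (e''.trans (conj_fix cp).symm))
      · exact e'
      · exact absurd (hinjC (e'.trans (conj_fix cp).symm)) F.fp
    · exact ⟨w, F.mw, F.hw.2.1, by rw [e, e2], e⟩
  have hrule := F.rule h hucom hup htm htx ht' ht'x hswap
  have hU : y * z * w * z * y = u * t * u := by
    have hyz2 : y * z = u * (C * p) := by rw [← hπ, mul_self_cancel hD hucom.1.1]
    calc y * z * w * z * y = (y * z) * w * (y * z)⁻¹ := by
          rw [mul_inv_rev, iy, iz]; simp only [mul_assoc]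
      _ = u * (C * (p * w * p⁻¹) * C⁻¹) * u⁻¹ := by rw [hyz2]; group
      _ = u * t * u := by rw [conj_fix hwp, inv_eq hD hucom.1.1, ← ht]
  calc z * v * y * z * w * z * y * v * z = z * (v * (y * z * w * z * y) * v) * z := by
        simp only [mul_assoc]
    _ = z * p * (u * t' * u) * p * z := by rw [hU, hrule]; simp only [mul_assoc]
    _ = y * (y * z * p * u * t' * (y * z * p * u)⁻¹) * y := by
        have einv : (y * z * p * u)⁻¹ = u * (p * (z * y)) := by
          have : (y * z * p * u) * (u * (p * (z * y))) = 1 := by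
            simp only [mul_assoc, mul_self_cancel hD hucom.1.1, mul_self_cancel hD hpD,
              mul_self_cancel hD hz.1.1, mul_self hD F.hy.1.1]
          exact inv_eq_of_mul_eq_one_right this
        rw [einv]
        simp only [mul_assoc, mul_self_cancel hD F.hy.1.1, mul_self hD F.hy.1.1, mul_one]
    _ = y * f * y := by rw [hπ', htarget]

theorem rels_five (F : Frame D x c p w v f y) (h : Geom D) {z : G} (hz : z ∈ com D x c)
    (hzp : z ≠ p) (hzy : z ≠ y) (hzn : ¬ Commute z (w * y * w))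
    (hCv : F.comm z * w * (F.comm z)⁻¹ ≠ v) :
    (∀ a < 6, F.gen z a * F.gen z a = 1) ∧ ∀ r ∈ certFive.rels, ev (F.gen z) r = 1 := by
  have hD := h.set
  obtain ⟨h4, h4r⟩ := F.rels_four h z
  refine ⟨fun a ha => ?_, fun r hr => ?_⟩
  · rcases Nat.lt_or_ge a 5 with hlt | hge
    · exact h4 a hlt
    · obtain rfl : a = 5 := by omega
      exact mul_self hD hz.1.1
  have sz := mul_self hD hz.1.1
  have sx := mul_self hD F.hx
  have sc := mul_self hD F.hc
  have hyw := F.off h F.hy F.hyp F.mw F.hw.2.1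
  have hzw := F.off h hz hzp F.mw F.hw.2.1
  have hzv := F.off h hz hzp F.mv F.vx
  have hyz : ¬ Commute y z := h.com_noncomm F.hx F.hc F.hxc F.hy hz hzy.symm
  have iw := inv_eq hD F.hw.1
  have p3 : ∀ a b : G, a ∈ D → b ∈ D → ¬ Commute a b → (a * b) ^ 3 = 1 :=
    fun a b ha hb hn => pow_three_of_not_commute hD ha hb hn
  simp only [certFive, List.mem_cons, List.not_mem_nil, or_false] at hr
  rcases hr with rfl | rfl | rfl | rfl | rfl | rfl | rfl | rfl | rfl | rfl | rfl | rfl | rfl | rfl |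
    rfl | rfl | rfl | rfl | rfl
  · exact h4r _ (by simp [certFour])
  · exact h4r _ (by simp [certFour])
  · exact h4r _ (by simp [certFour])
  · exact h4r _ (by simp [certFour])
  · exact ev_two (x := x) (y := z) rfl rfl sx sz hz.1.2.2
  · exact h4r _ (by simp [certFour])
  · exact h4r _ (by simp [certFour])
  · exact h4r _ (by simp [certFour])
  · exact ev_two (x := c) (y := z) rfl rfl sc sz hz.2
  · exact h4r _ (by simp [certFour])
  · exact h4r _ (by simp [certFour])
  · exact ev_three (x := w) (y := z) rfl rfl (p3 z w hz.1.1 F.hw.1 hzw)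
  · exact h4r _ (by simp [certFour])
  · exact ev_three (x := y) (y := z) rfl rfl (p3 z y hz.1.1 F.hy.1.1 fun e => hyz e.symm)
  · exact ev_three (x := v) (y := z) rfl rfl (p3 z v hz.1.1 F.mv.1 hzv)
  · have hn : ¬ Commute (w * z * w) y := fun e => hzn (by
      have := cmap w e
      rw [iw] at this
      simpa [mul_assoc, mul_self hD F.hw.1, mul_self_cancel hD F.hw.1] using this)
    show ev (F.gen z) _ = 1
    have e1 : ev (F.gen z) [3, 5, 2, 5, 3, 2, 5, 3, 2, 3, 5, 2] =
        w * z * (y * w * y) * z * w * y * (z * w * z) * y := by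
      simp only [ev, gen, reduceIte, OfNat.ofNat_ne_zero, OfNat.ofNat_ne_one, one_mul, mul_assoc,
        show (3 : ℕ) ≠ 2 by decide, show (5 : ℕ) ≠ 2 by decide, show (5 : ℕ) ≠ 3 by decide,
        show (5 : ℕ) ≠ 4 by decide]
    rw [e1, braid hD F.hy.1.1 F.hw.1 hyw,
      ← p3 _ _ (conj_mem hD h.conj F.hw.1 hz.1.1) F.hy.1.1 hn]
    simp only [pow_succ, pow_zero, one_mul]
    rw [show z * w * z = w * z * w from braid hD hz.1.1 F.hw.1 hzw]
    simp only [mul_assoc]
  · show ev (F.gen z) _ = 1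
    have e1 : ev (F.gen z) [5, 4, 3, 5, 2, 5, 3, 4, 5, 3, 1, 4, 2, 1, 0, 1, 2, 4, 1, 3] =
        y * (c * v * w * c * x * c * w * v * c) * y * (z * v * y * z * w * z * y * v * z) := by
      simp only [ev, gen, reduceIte, OfNat.ofNat_ne_zero, OfNat.ofNat_ne_one, one_ne_zero, one_mul,
        mul_assoc, show (3 : ℕ) ≠ 2 by decide, show (5 : ℕ) ≠ 2 by decide,
        show (5 : ℕ) ≠ 3 by decide, show (5 : ℕ) ≠ 4 by decide, show (4 : ℕ) ≠ 2 by decide,
        show (4 : ℕ) ≠ 3 by decide]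
    rw [e1, F.r_two h hz hzy hCv, ← F.word]
    exact mul_self hD (conj_mem hD h.conj F.hy.1.1 F.mf.1)
  · have hn : ¬ Commute (v * y * v) z := by
      intro e
      have hvy : Commute (w * y * w) (v * y * v) := by
        have h1 := cmap w (string_fact hD F.hw.1 F.hy.1.1 F.mv.1 F.mv.2.2.symm
          (fun e => hyw e.symm) (F.off h F.hy F.hyp F.mv F.vx))
        rw [iw, mul_inv_rev, inv_eq hD F.mv.1, iw] at h1
        simpa [mul_assoc, mul_self hD F.hw.1, mul_self_cancel hD F.hw.1] using h1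
      have hgx : Commute (v * y * v) x :=
        (F.mv.2.1.mul_left F.hy.1.2.2.symm).mul_left F.mv.2.1
      have hne : x ≠ v * y * v := fun e' => F.hy.1.2.1 (by
        calc y = v * (v * y * v) * v := by
              simp only [mul_assoc, mul_self hD F.mv.1, mul_one, mul_self_cancel hD F.mv.1]
          _ = x := by rw [← e', conj_conj_of_commute hD F.mv.1 F.mv.2.1])
      exact hzn (h.clique F.hx (conj_mem hD h.conj F.mv.1 F.hy.1.1) hne hgx.symm
        ⟨hz.1.1, hz.1.2.2.symm, e.symm⟩ ⟨conj_mem hD h.conj F.hw.1 F.hy.1.1,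
          (F.mw.2.1.mul_left F.hy.1.2.2.symm).mul_left F.mw.2.1, hvy⟩)
    show ev (F.gen z) _ = 1
    rw [← p3 _ _ (conj_mem hD h.conj F.mv.1 F.hy.1.1) hz.1.1 hn]
    simp only [ev, gen, reduceIte, OfNat.ofNat_ne_zero, OfNat.ofNat_ne_one, one_mul, mul_assoc,
      pow_succ, pow_zero, show (3 : ℕ) ≠ 2 by decide, show (5 : ℕ) ≠ 2 by decide,
      show (5 : ℕ) ≠ 3 by decide, show (5 : ℕ) ≠ 4 by decide, show (4 : ℕ) ≠ 2 by decide,
      show (4 : ℕ) ≠ 3 by decide]
  · exact h4r _ (by simp [certFour])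

theorem gen_five (F : Frame D x c p w v f y) (h : Geom D) {z : G} (hz : z ∈ com D x c)
    (hzp : z ≠ p) (hzy : z ≠ y) (hzn : ¬ Commute z (w * y * w))
    (hm : (com D x c).ncard = 9) : Subgroup.closure (F.gen z '' {a | a < 6}) = ⊤ := by
  have hD := h.set
  set K := Subgroup.closure (F.gen z '' {a | a < 6})
  have mem : ∀ a < 6, F.gen z a ∈ K := fun a ha => Subgroup.subset_closure ⟨a, ha, rfl⟩
  have kx : x ∈ K := mem 0 (by norm_num)
  have kc : c ∈ K := mem 1 (by norm_num)
  have kw : w ∈ K := mem 2 (by norm_num)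
  have ky : y ∈ K := mem 3 (by norm_num)
  have kv : v ∈ K := mem 4 (by norm_num)
  have kz : z ∈ K := mem 5 (by norm_num)
  have hyw := F.off h F.hy F.hyp F.mw F.hw.2.1
  have hzw := F.off h hz hzp F.mw F.hw.2.1
  have hyz : ¬ Commute y z := h.com_noncomm F.hx F.hc F.hxc F.hy hz hzy.symm
  have iw := inv_eq hD F.hw.1
  have hwyw : w * y * w ∈ adj D x := by
    have hgx : Commute w x := F.mw.2.1
    have := (conj_adj h.conj w x (w * y * w)).2 (by
      rw [iw]; simpa [mul_assoc, mul_self hD F.hw.1, mul_self_cancel hD F.hw.1] using F.hy.1)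
    rwa [conj_fix hgx] at this
  have n1 : ¬ Commute w (w * y * w) := fun e => hyw (by
    have := cmap w e
    rw [iw] at this
    have h2 : Commute w y := by
      simpa [mul_assoc, mul_self hD F.hw.1, mul_self_cancel hD F.hw.1] using this
    exact h2.symm)
  have n2 : ¬ Commute y (w * y * w) := fun e => hyw (by
    have := cmap y e
    rw [← braid hD F.hy.1.1 F.hw.1 hyw, inv_eq hD F.hy.1.1] at this
    simpa [mul_assoc, mul_self hD F.hy.1.1, mul_self_cancel hD F.hy.1.1] using this)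
  have ne_of : ∀ {a b : G}, ¬ Commute a b → a ≠ b := fun hn e => hn (e ▸ Commute.refl _)
  refine h.gen_top F.hx F.hc F.hxc F.hw kx kc (F.line_subset h kx kc kw kv)
    (T := {w, y, w * y * w, z}) ?_ ?_ ?_ ?_
  · rintro u (rfl | rfl | rfl | rfl)
    exacts [F.hw, F.hy.1, hwyw, hz.1]
  · rintro u (rfl | rfl | rfl | rfl)
    exacts [kw, ky, K.mul_mem (K.mul_mem kw ky) kw, kz]
  · rintro a (rfl | rfl | rfl | rfl) b (rfl | rfl | rfl | rfl) hab <;>
      first
      | exact absurd rfl hab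
      | assumption
      | (intro e; exact absurd e.symm (by assumption))
  · rw [hm, Set.ncard_insert_of_notMem, Set.ncard_insert_of_notMem, Set.ncard_pair]
    · norm_num
    · exact ne_of fun e => hzn e.symm
    · simp [ne_of n2, ne_of hyz]
    · simp [ne_of fun e => hyw e.symm, ne_of n1, ne_of fun e => hzw e.symm]

end Frame

namespace Geom

/-- Generators for the smaller parameters. -/
theorem exists_gens_four (h : Geom D) {x c p w : G} (hx : x ∈ D) (hc : c ∈ D)
    (hxc : ¬ Commute x c) (hp : p ∈ com D x c) (hw : w ∈ adj D x) (hwp : w ≠ p)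
    (mp : p ∈ line D x w) (h5 : (line D x w).ncard = 5) (hm : (com D x c).ncard = 3) :
    ∃ g : ℕ → G, (∀ a < 5, g a * g a = 1) ∧ (∀ r ∈ certFour.rels, ev g r = 1) ∧
      Subgroup.closure (g '' {a | a < 5}) = ⊤ := by
  obtain ⟨v, mv, hv⟩ : ∃ v ∈ line D x w, v ∉ ({x, w, p} : Set G) := by
    refine Set.exists_mem_notMem_of_ncard_lt_ncard ?_ (Set.toFinite _)
    have := Set.ncard_insert_le x ({w, p} : Set G)
    have := Set.ncard_insert_le w ({p} : Set G)
    rw [Set.ncard_singleton] at this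
    omega
  obtain ⟨y, hy, hyp⟩ : ∃ y ∈ com D x c, y ∉ ({p} : Set G) :=
    Set.exists_mem_notMem_of_ncard_lt_ncard (by rw [Set.ncard_singleton, hm]; norm_num)
      (Set.toFinite _)
  simp only [Set.mem_insert_iff, Set.mem_singleton_iff, not_or] at hv hyp
  obtain ⟨f, F⟩ := h.exists_frame hx hc hxc hp hy hyp hw hwp mp mv hv.1 hv.2.1 hv.2.2
  exact ⟨F.gen x, (F.rels_four h x).1, (F.rels_four h x).2, F.gen_four h x hm⟩

/-- Generators for the larger parameters. -/
theorem exists_gens_five (h : Geom D) {x c p w : G} (hx : x ∈ D) (hc : c ∈ D)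
    (hxc : ¬ Commute x c) (hp : p ∈ com D x c) (hw : w ∈ adj D x) (hwp : w ≠ p)
    (mp : p ∈ line D x w) (h5 : (line D x w).ncard = 5) (hm : (com D x c).ncard = 9) :
    ∃ g : ℕ → G, (∀ a < 6, g a * g a = 1) ∧ (∀ r ∈ certFive.rels, ev g r = 1) ∧
      Subgroup.closure (g '' {a | a < 6}) = ⊤ := by
  have hD := h.set
  obtain ⟨v, mv, hv⟩ : ∃ v ∈ line D x w, v ∉ ({x, w, p} : Set G) := by
    refine Set.exists_mem_notMem_of_ncard_lt_ncard ?_ (Set.toFinite _)
    have := Set.ncard_insert_le x ({w, p} : Set G)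
    have := Set.ncard_insert_le w ({p} : Set G)
    rw [Set.ncard_singleton] at this
    omega
  obtain ⟨y, hy, hyp⟩ : ∃ y ∈ com D x c, y ∉ ({p} : Set G) :=
    Set.exists_mem_notMem_of_ncard_lt_ncard (by rw [Set.ncard_singleton, hm]; norm_num)
      (Set.toFinite _)
  simp only [Set.mem_insert_iff, Set.mem_singleton_iff, not_or] at hv hyp
  obtain ⟨f, F⟩ := h.exists_frame hx hc hxc hp hy hyp hw hwp mp mv hv.1 hv.2.1 hv.2.2
  obtain ⟨z, hz, hzp, hzy, hzn⟩ :
      ∃ z ∈ com D x c, z ≠ p ∧ z ≠ y ∧ ¬ Commute z (w * y * w) := by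
    obtain ⟨z₁, hz₁, hn₁⟩ : ∃ z ∈ com D x c, z ∉ ({p, y} : Set G) :=
      Set.exists_mem_notMem_of_ncard_lt_ncard
        (by rw [Set.ncard_pair (Ne.symm hyp), hm]; norm_num) (Set.toFinite _)
    obtain ⟨z₂, hz₂, hn₂⟩ : ∃ z ∈ com D x c, z ∉ ({z₁, p, y} : Set G) := by
      refine Set.exists_mem_notMem_of_ncard_lt_ncard ?_ (Set.toFinite _)
      have := Set.ncard_insert_le z₁ ({p, y} : Set G)
      rw [Set.ncard_pair (Ne.symm hyp)] at this
      omega
    simp only [Set.mem_insert_iff, Set.mem_singleton_iff, not_or] at hn₁ hn₂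
    by_cases h1 : Commute z₁ (w * y * w)
    · refine ⟨z₂, hz₂, hn₂.2.1, hn₂.2.2, fun h2 => ?_⟩
      have hne : x ≠ w * y * w := fun e' => hy.1.2.1 (by
        calc y = w * (w * y * w) * w := by
              simp only [mul_assoc, mul_self hD hw.1, mul_one, mul_self_cancel hD hw.1]
          _ = x := by rw [← e', conj_conj_of_commute hD hw.1 hw.2.2.symm])
      have hgx : Commute (w * y * w) x :=
        (hw.2.2.symm.mul_left hy.1.2.2.symm).mul_left hw.2.2.symm
      exact h.com_noncomm hx hc hxc hz₁ hz₂ (Ne.symm hn₂.1)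
        (h.clique hx (conj_mem hD h.conj hw.1 hy.1.1) hne hgx.symm
          ⟨hz₁.1.1, hz₁.1.2.2.symm, h1⟩ ⟨hz₂.1.1, hz₂.1.2.2.symm, h2⟩)
    · exact ⟨z₁, hz₁, hn₁.1, hn₁.2, h1⟩
  by_cases hCv : F.comm z * w * (F.comm z)⁻¹ = v
  · -- exchange v and f
    obtain ⟨f', F'⟩ := h.exists_frame hx hc hxc hp hy hyp hw hwp mp F.mf F.fx F.fw F.fp
    have hCv' : F'.comm z * w * (F'.comm z)⁻¹ ≠ f := fun e => F.fv (e.symm.trans hCv)
    exact ⟨F'.gen z, (F'.rels_five h hz hzp hzy hzn hCv').1,
      (F'.rels_five h hz hzp hzy hzn hCv').2, F'.gen_five h hz hzp hzy hzn hm⟩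
  · exact ⟨F.gen z, (F.rels_five h hz hzp hzy hzn hCv).1, (F.rels_five h hz hzp hzy hzn hCv).2,
      F.gen_five h hz hzp hzy hzn hm⟩

end Geom

end Cfsg.Agent.ThreeTrans.SolvLocal
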