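/-
Transvections of SU(4,2) and SU(5,2) satisfying the relators of the coset certificates.

Main results: `exists_model`, `exists_model_tv` (with the centres), `model_four`, `model_five`.
-/
import Cfsg.Agent.Lib.ThreeTrans.Solvable.CosetData
import Cfsg.Agent.Lib.ThreeTransSU.GensCert
import Cfsg.Agent.Lib.ThreeTransSU.Class

set_option autoImplicit false
set_option maxRecDepth 100000

namespace Cfsg.Agent.ThreeTrans.SolvLocal

open Cfsg.Agent.SU32 Cfsg.Agent.ThreeTransSU Cfsg.Agent.ThreeTransSU.GensCert Cfsg.Agent.U62Cover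

/-- Apply a word of transvections, the first letter first. -/
def applyWord (m : ℕ) (vs : List (List K4)) : List ℕ → List K4 → List K4
  | [], u => u
  | a :: w, u => applyWord m vs w (refl m (vs.getD a []) u)

/-- A unit vector. -/
def unitVec (m i : ℕ) : List K4 := List.ofFn fun j : Fin m => if j.val = i then K4.o else K4.z

/-- The check. -/
def modelCheck (C : Cert) (m : ℕ) (vs : List (List K4)) (st : List (ℕ × ℕ)) : Bool :=
  (vs.length == C.k) && (vs.all fun a => decide (hk m a a = .z ∧ vec m a ≠ fun _ => .z)) &&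
  (C.rels.all fun r => (r.all fun a => decide (a < C.k)) &&
    (List.range m).all fun i => decide (applyWord m vs r (unitVec m i) = unitVec m i)) &&
  match build m st vs with
  | none => false
  | some L => (allVecs m).all fun x =>
      decide (hk m x x ≠ .z) || decide (vec m x = fun _ => .z) ||
        L.any fun p => decide (x = smulL m .o p ∨ x = smulL m .w p ∨ x = smulL m .w2 p)

theorem exists_model_tv {C : Cert} {m : ℕ} {vs : List (List K4)} {st : List (ℕ × ℕ)}
    (hc : modelCheck C m vs st = true) (hm : 4 ≤ m) {F : Type*} [Field F] [Fintype F]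
    (hF : Fintype.card F = 4) :
    ∃ t : ℕ → Cfsg.PSU m F 2, (∀ a < C.k, t a * t a = 1) ∧ (∀ r ∈ C.rels, ev t r = 1) ∧
      Subgroup.closure (t '' {a | a < C.k}) = ⊤ ∧
      ∀ a < C.k, ∃ v : Fin m → F, Iso v ∧
        (∃ e : K4 ≃+* F, v = fun k => e (vec m (vs.getD a []) k)) ∧
        t a = QuotientGroup.mk' _ (tv hF v) := by
  simp only [modelCheck, Bool.and_eq_true, beq_iff_eq, List.all_eq_true, decide_eq_true_eq,
    List.mem_range] at hc
  obtain ⟨⟨⟨hlen, hiso⟩, hrel⟩, hb⟩ := hc
  cases hL : build m st vs with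
  | none => rw [hL] at hb; exact absurd hb (by simp)
  | some L =>
    rw [hL] at hb
    simp only [List.all_eq_true, Bool.or_eq_true, List.any_eq_true, decide_eq_true_eq] at hb
    let e : K4 ≃+* F := FiniteField.ringEquivOfCardEq (hF ▸ K4.card_eq)
    let E : List K4 → (Fin m → F) := fun l k => e (vec m l k)
    have hE : ∀ a b, hf (E a) (E b) = e (hk m a b) := fun a b => hf_map e _ _
    have hEiso : ∀ a ∈ vs, Iso (E a) := fun a ha => by
      obtain ⟨h1, h2⟩ := hiso a ha
      refine ⟨fun h => h2 (funext fun k => e.injective ((congrFun h k).trans (map_zero e).symm)), ?_⟩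
      rw [hE, h1]; exact map_zero e
    have hrefl : ∀ a b, E (refl m a b) = E b + hf (E b) (E a) • E a := fun a b => by
      funext k
      show e (vec m (GensCert.refl m a b) k) = e (vec m b k) + hf (E b) (E a) * e (vec m a k)
      rw [hE, GensCert.refl, vec_ofFn, map_add, map_mul]
    let T : ℕ → Cfsg.SU m F 2 := fun a => tv hF (E (vs.getD a []))
    have hmem : ∀ a < C.k, vs.getD a [] ∈ vs := fun a ha => by
      rw [List.getD_eq_getElem _ _ (hlen.symm ▸ ha)]; exact List.getElem_mem _
    have hTiso : ∀ a < C.k, Iso (E (vs.getD a [])) := fun a ha => hEiso _ (hmem a ha)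
    have hword : ∀ w : List ℕ, (∀ a ∈ w, a < C.k) → ∀ u, act (ev T w) (E u) = E (applyWord m vs w u) := by
      intro w
      induction w with
      | nil => intro _ u; exact act_one _
      | cons a w ih =>
        intro hw u
        show act (ev T w * T a) (E u) = E (applyWord m vs w (refl m (vs.getD a []) u))
        rw [act_mul, act_tv hF (hTiso a (hw a List.mem_cons_self)).2, ← hrefl]
        exact ih (fun b hb => hw b (List.mem_cons_of_mem a hb)) _
    refine ⟨fun a => QuotientGroup.mk' _ (T a), fun a ha => ?_, fun r hr => ?_, ?_,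
      fun a ha => ⟨_, hTiso a ha, ⟨e, rfl⟩, rfl⟩⟩
    · rw [← map_mul, show T a * T a = 1 from tv_sq hF (hTiso a ha).2, map_one]
    · rw [← ev_map (QuotientGroup.mk' (Subgroup.center (Cfsg.SU m F 2))) T r]
      have h1 : ev T r = 1 := by
        refine act_ext fun x => ?_
        rw [act_one]
        have hu : ∀ i k : Fin m, E (unitVec m i) k = if k = i then 1 else 0 := by
          intro i k
          show e (vec m (unitVec m i) k) = _
          rw [unitVec, vec_ofFn]
          by_cases hik : k = i
          · rw [if_pos (congrArg Fin.val hik), if_pos hik]; exact map_one e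
          · rw [if_neg (fun h' => hik (Fin.ext h')), if_neg hik]; exact map_zero e
        have hx : x = ∑ i : Fin m, x i • E (unitVec m i) := by
          funext k
          simp [hu, Finset.sum_apply]
        let L : (Fin m → F) →ₗ[F] (Fin m → F) :=
          { toFun := act (ev T r), map_add' := act_add _, map_smul' := fun c v => act_smul _ c v }
        show L x = x
        rw [hx, map_sum]
        refine Finset.sum_congr rfl fun i _ => ?_
        rw [map_smul]
        congr 1
        show act (ev T r) (E (unitVec m i)) = _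
        rw [hword r (hrel r hr).1, (hrel r hr).2 i i.isLt]
      rw [h1, map_one]
    · set K := Subgroup.closure (T '' {a | a < C.k}) with hK
      have hP : ∀ p ∈ L, Iso (E p) ∧ tv hF (E p) ∈ K := by
        refine build_sound (P := fun p => Iso (E p) ∧ tv hF (E p) ∈ K) ?_ st vs L ?_ hL
        · intro a b ha hb' _
          have hact : act (tv hF (E a)) (E b) = E (refl m a b) := by rw [act_tv hF ha.1.2, hrefl]
          refine ⟨hact ▸ hb'.1.act _, ?_⟩
          rw [← hact, ← tv_conj_inv hF _ hb'.1.2]
          exact K.mul_mem (K.mul_mem ha.2 hb'.2) (K.inv_mem ha.2)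
        · intro p hp
          obtain ⟨i, hi, rfl⟩ := List.getElem_of_mem hp
          refine ⟨hEiso _ hp, Subgroup.subset_closure ⟨i, show i < C.k from hlen ▸ hi, ?_⟩⟩
          simp only [T, List.getD_eq_getElem vs [] hi]
      have htop : K = ⊤ := by
        rw [eq_top_iff, ← closure_tv hF hm, Subgroup.closure_le]
        rintro A ⟨x, hx, rfl⟩
        let y : List K4 := List.ofFn fun k => e.symm (x k)
        have hxy : x = E y := funext fun k => by simp [E, y, vec_ofFn]
        rcases hb y (ofFn_mem m _) with (h | h) | ⟨p, hp, h⟩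
        · exfalso
          refine h (e.injective ?_)
          rw [← hE, ← hxy]
          exact hx.2.trans (map_zero e).symm
        · exfalso
          refine hx.1 ?_
          rw [hxy]
          funext k
          show e (vec m y k) = 0
          rw [h]; exact map_zero e
        · have key : ∀ c : K4, c ≠ .z → y = smulL m c p → tv hF x ∈ K := by
            intro c hc hy'
            have h1 : x = e c • E p := by
              rw [hxy, hy']; funext k; simp [E, smulL, vec_ofFn]
            rw [h1, tv_smul hF (hP p hp).1 fun h0 => hc (e.injective (h0.trans (map_zero e).symm))]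
            exact (hP p hp).2
          rcases h with h | h | h
          exacts [key _ (by decide) h, key _ (by decide) h, key _ (by decide) h]
      rw [← Set.image_image (QuotientGroup.mk' _) T, ← MonoidHom.map_closure, ← hK, htop,
        Subgroup.map_top_of_surjective _ (QuotientGroup.mk'_surjective _)]

theorem exists_model {C : Cert} {m : ℕ} {vs : List (List K4)} {st : List (ℕ × ℕ)}
    (hc : modelCheck C m vs st = true) (hm : 4 ≤ m) {F : Type*} [Field F] [Fintype F]
    (hF : Fintype.card F = 4) :
    ∃ t : ℕ → Cfsg.PSU m F 2, (∀ a < C.k, t a * t a = 1) ∧ (∀ r ∈ C.rels, ev t r = 1) ∧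
      Subgroup.closure (t '' {a | a < C.k}) = ⊤ := by
  obtain ⟨t, h1, h2, h3, -⟩ := exists_model_tv hc hm hF
  exact ⟨t, h1, h2, h3⟩

/-- Transvection centres for `certFour`. -/
def vecsFour : List (List K4) :=
  [[.z, .z, .o, .o],
   [.z, .o, .z, .w],
   [.o, .o, .z, .z],
   [.o, .w, .w2, .w2],
   [.o, .o, .o, .o]]

/-- Reflection steps from `vecsFour`. -/
def stepsFour : List (ℕ × ℕ) :=
  [(1, 0), (2, 1), (4, 1), (3, 2), (4, 3), (2, 5), (4, 5),
   (3, 6), (4, 6), (3, 7), (4, 8), (3, 10), (4, 10), (3, 11),
   (4, 12), (3, 13), (2, 14), (1, 15), (4, 16), (1, 17), (3, 17),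
   (2, 18), (1, 19), (3, 19), (0, 22), (1, 23), (3, 23), (3, 24),
   (2, 25), (1, 26), (0, 30), (2, 30), (3, 30), (2, 32), (4, 32),
   (4, 34), (2, 35), (4, 37), (4, 38), (3, 43)]

/-- Transvection centres for `certFive`. -/
def vecsFive : List (List K4) :=
  [[.z, .z, .z, .o, .o],
   [.z, .z, .o, .z, .w],
   [.z, .o, .o, .z, .z],
   [.z, .o, .w, .w2, .w2],
   [.z, .o, .o, .o, .o],
   [.o, .z, .o, .w, .w]]

/-- Reflection steps from `vecsFive`. -/
def stepsFive : List (ℕ × ℕ) :=
  [(1, 0), (2, 1), (4, 1), (3, 2), (5, 2), (4, 3), (5, 3),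
   (5, 4), (2, 6), (4, 6), (3, 7), (4, 7), (5, 7), (3, 8),
   (5, 8), (4, 9), (5, 9), (3, 10), (4, 10), (5, 11), (2, 12),
   (4, 12), (3, 13), (3, 14), (4, 14), (5, 14), (3, 15), (5, 15),
   (4, 16), (5, 16), (3, 17), (5, 17), (3, 18), (4, 18), (2, 19),
   (5, 19), (2, 20), (3, 20), (1, 21), (5, 21), (4, 22), (4, 23),
   (1, 24), (3, 24), (2, 25), (1, 26), (4, 26), (1, 27), (2, 28),
   (4, 29), (5, 29), (1, 30), (3, 30), (5, 30), (3, 31), (4, 31),
   (2, 32), (5, 32), (2, 33), (3, 33), (1, 34), (3, 34), (2, 35),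
   (5, 36), (2, 37), (3, 37), (4, 37), (2, 38), (4, 38), (3, 39),
   (5, 40), (2, 41), (4, 41), (4, 43), (0, 44), (5, 44), (2, 45),
   (3, 45), (4, 45), (3, 46), (1, 47), (5, 47), (0, 48), (3, 48),
   (5, 49), (1, 50), (3, 50), (0, 51), (4, 51), (1, 52), (3, 52),
   (5, 52), (0, 53), (2, 53), (5, 54), (1, 55), (3, 55), (2, 56),
   (2, 58), (2, 59), (4, 59), (1, 61), (3, 61), (1, 62), (5, 62),
   (1, 64), (4, 65), (5, 67), (3, 69), (4, 69), (3, 70), (2, 71),
   (1, 74), (3, 74), (5, 74), (2, 75), (2, 76), (4, 76), (1, 77),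
   (3, 77), (5, 80), (2, 81), (3, 81), (1, 82), (5, 85), (3, 88),
   (4, 89), (5, 89), (4, 93), (1, 94), (5, 94), (0, 95), (2, 95),
   (3, 95), (5, 95), (2, 98), (3, 99), (0, 101), (2, 101), (3, 101),
   (5, 102), (1, 105), (3, 105), (1, 106), (2, 107), (2, 108), (4, 109),
   (4, 110), (4, 111), (2, 113), (4, 113), (2, 116), (4, 116), (2, 119),
   (4, 122), (2, 126), (1, 127), (4, 129), (4, 131)]

theorem model_four : modelCheck certFour 4 vecsFour stepsFour = true := by decide +kernel

theorem model_five : modelCheck certFive 5 vecsFive stepsFive = true := by decide +kernel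

end Cfsg.Agent.ThreeTrans.SolvLocal
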