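/-
Identification with PSU(4,2) and PSU(5,2), and the classification of the solvable local case.

Main result: `Geom.classify`.
-/
import Cfsg.Agent.Lib.ThreeTrans.Solvable.Frame
import Cfsg.Agent.Lib.ThreeTrans.Solvable.Model
import Cfsg.Agent.S0280
import Cfsg.Agent.S0283

set_option autoImplicit false

namespace Cfsg.Agent.ThreeTrans.SolvLocal

open Cfsg Cfsg.Agent.ThreeTrans

theorem commute_of_ev {H : Type*} [Group H] {el : ℕ → H} {i j : ℕ} (hi : el i * el i = 1)
    (hj : el j * el j = 1) (h : ev el [i, j, i, j] = 1) : Commute (el i) (el j) := by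
  have h' : el j * el i * (el j * el i) = 1 := by
    rw [← h]; simp only [ev, one_mul, mul_assoc]
  have := eq_inv_of_mul_eq_one_left h'
  rw [mul_inv_rev, inv_eq_of_mul_eq_one_left hi, inv_eq_of_mul_eq_one_left hj] at this
  exact this.symm

theorem braid_of_ev {H : Type*} [Group H] {el : ℕ → H} {i j : ℕ} (hi : el i * el i = 1)
    (hj : el j * el j = 1) (h : ev el [i, j, i, j, i, j] = 1) :
    el i * el j * el i = el j * el i * el j := by
  have h' : el j * el i * el j * (el i * el j * el i) = 1 := by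
    rw [← h]; simp only [ev, one_mul, mul_assoc]
  have := eq_inv_of_mul_eq_one_left h'
  rw [mul_inv_rev, mul_inv_rev, inv_eq_of_mul_eq_one_left hi, inv_eq_of_mul_eq_one_left hj,
    ← mul_assoc] at this
  exact this.symm

theorem bound_four {H : Type*} [Group H] [Finite H] {el : ℕ → H}
    (hinv : ∀ a < 5, el a * el a = 1) (hrel : ∀ r ∈ certFour.rels, ev el r = 1)
    (hgen : Subgroup.closure (el '' {a | a < 5}) = ⊤) : Nat.card H ≤ 51840 := by
  have hr : ∀ r ∈ ([[0, 1, 0, 1, 0, 1], [1, 2, 1, 2, 1, 2], [2, 3, 2, 3, 2, 3], [0, 2, 0, 2],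
      [0, 3, 0, 3], [1, 3, 1, 3]] : List (List ℕ)), ev el r = 1 := by
    intro r hr
    apply hrel
    simp only [List.mem_cons, List.not_mem_nil, or_false] at hr
    rcases hr with rfl | rfl | rfl | rfl | rfl | rfl <;> simp [certFour]
  have hbr : BraidA el 4 := by
    refine ⟨fun i hi => hinv i (by omega), fun i hi => ?_, fun i j h1 h2 => ?_⟩
    · have hi' : i < 3 := by omega
      interval_cases i <;>
        exact braid_of_ev (hinv _ (by norm_num)) (hinv _ (by norm_num)) (hr _ (by simp))
    · have hi' : i < 2 := by omega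
      interval_cases i <;> interval_cases j <;>
        exact commute_of_ev (hinv _ (by norm_num)) (hinv _ (by norm_num)) (hr _ (by simp))
  obtain ⟨φ, hφ⟩ := exists_hom_perm hbr
  have hS : Nat.card φ.range ≤ 120 := by
    refine (Nat.card_le_card_of_surjective φ.rangeRestrict φ.rangeRestrict_surjective).trans ?_
    simp [Nat.card_eq_fintype_card, Fintype.card_perm, Nat.factorial]
  have hsub : ∀ a ∈ certFour.sub, el a ∈ φ.range := by
    intro a ha
    have ha' : a < 4 := by
      simp only [certFour, List.mem_cons, List.not_mem_nil, or_false] at ha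
      omega
    exact ⟨_, hφ ⟨a, ha'⟩⟩
  have := Cert.card_le certFour_check el hinv hrel hgen φ.range hsub
  have hn : certFour.n = 432 := rfl
  rw [hn] at this
  omega

theorem bound_five {H : Type*} [Group H] [Finite H] {el : ℕ → H}
    (hinv : ∀ a < 6, el a * el a = 1) (hrel : ∀ r ∈ certFive.rels, ev el r = 1)
    (hgen : Subgroup.closure (el '' {a | a < 6}) = ⊤) : Nat.card H ≤ 27371520 := by
  set S := Subgroup.closure (el '' {a | a < 5}) with hS
  let el' : ℕ → S := fun a => if ha : a < 5 then ⟨el a, Subgroup.subset_closure ⟨a, ha, rfl⟩⟩ else 1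
  have hev : ∀ r : List ℕ, (∀ a ∈ r, a < 5) → ((ev el' r : S) : H) = ev el r := by
    intro r
    induction r with
    | nil => intro _; rfl
    | cons a r ih =>
      intro hr
      show ((ev el' r * el' a : S) : H) = ev el r * el a
      rw [Subgroup.coe_mul, ih fun b hb => hr b (List.mem_cons_of_mem a hb)]
      simp only [el', dif_pos (hr a List.mem_cons_self)]
  have hSle : Nat.card S ≤ 51840 := by
    refine bound_four (el := el') (fun a ha => Subtype.ext ?_) (fun r hr => Subtype.ext ?_) ?_
    · simp only [el', dif_pos ha, Subgroup.coe_mul, Subgroup.coe_one]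
      exact hinv a (by omega)
    · have hsub : ∀ q ∈ certFour.rels, (∀ a ∈ q, a < 5) ∧ q ∈ certFive.rels := by decide +kernel
      rw [hev r (hsub r hr).1]
      exact hrel r (hsub r hr).2
    · have e : el' '' {a | a < 5} = (Subtype.val : S → H) ⁻¹' (el '' {a | a < 5}) := by
        ext ⟨s, hs⟩
        constructor
        · rintro ⟨a, ha, e⟩
          refine ⟨a, ha, ?_⟩
          have := congrArg Subtype.val e
          simpa only [el', dif_pos (show a < 5 from ha)] using this
        · rintro ⟨a, ha, e⟩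
          exact ⟨a, ha, Subtype.ext (by simpa only [el', dif_pos (show a < 5 from ha)] using e)⟩
      rw [e]
      exact Subgroup.closure_closure_coe_preimage
  have hsub : ∀ a ∈ certFive.sub, el a ∈ S := by
    intro a ha
    have ha' : a < 5 := by
      simp only [certFive, List.mem_cons, List.not_mem_nil, or_false] at ha
      omega
    exact Subgroup.subset_closure ⟨a, ha', rfl⟩
  have := Cert.card_le certFive_check el hinv hrel hgen S hsub
  have hn : certFive.n = 528 := rfl
  rw [hn] at this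
  omega

theorem ev_congr {K : Type*} [Group K] {f : ℕ → K} (f' : ℕ → K) :
    ∀ r : List ℕ, (∀ a ∈ r, f a = f' a) → ev f r = ev f' r
  | [], _ => rfl
  | a :: r, hr => by
    show ev f r * f a = ev f' r * f' a
    rw [ev_congr f' r fun b hb => hr b (List.mem_cons_of_mem a hb), hr a List.mem_cons_self]

/-- A group with trivial centre satisfying the relations of a simple model is the model. -/
theorem equiv_of_bound {G P : Type*} [Group G] [Finite G] [Nontrivial G] [Group P] [Finite P]
    (hP : IsSimpleGroup P) (hZ : Subgroup.center G = ⊥) {C : Cert} {g : ℕ → G} {t : ℕ → P}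
    (g2 : ∀ a < C.k, g a * g a = 1) (gr : ∀ r ∈ C.rels, ev g r = 1)
    (gg : Subgroup.closure (g '' {a | a < C.k}) = ⊤) (t2 : ∀ a < C.k, t a * t a = 1)
    (tr : ∀ r ∈ C.rels, ev t r = 1) (tg : Subgroup.closure (t '' {a | a < C.k}) = ⊤)
    (hlet' : ∀ r ∈ C.rels, ∀ a ∈ r, a < C.k)
    (bound : ∀ Γ : Subgroup (G × P), ∀ el : ℕ → Γ, (∀ a < C.k, el a * el a = 1) →
      (∀ r ∈ C.rels, ev el r = 1) → Subgroup.closure (el '' {a | a < C.k}) = ⊤ →
      Nat.card Γ ≤ 2 * Nat.card P) : Nonempty (G ≃* P) := by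
  classical
  let pr : ℕ → G × P := fun a => if a < C.k then (g a, t a) else 1
  set Γ := Subgroup.closure (pr '' {a | a < C.k}) with hΓ
  let el : ℕ → Γ := fun a =>
    if ha : a < C.k then ⟨pr a, Subgroup.subset_closure ⟨a, ha, rfl⟩⟩ else 1
  have hpr : ∀ a < C.k, pr a = (g a, t a) := fun a ha => if_pos ha
  let π₁ : Γ →* G := (MonoidHom.fst G P).comp Γ.subtype
  let π₂ : Γ →* P := (MonoidHom.snd G P).comp Γ.subtype
  have e1 : ∀ a < C.k, π₁ (el a) = g a := fun a ha => by
    simp only [π₁, el, dif_pos ha, MonoidHom.coe_comp, Function.comp, Subgroup.coe_subtype,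
      MonoidHom.coe_fst, hpr a ha]
  have e2 : ∀ a < C.k, π₂ (el a) = t a := fun a ha => by
    simp only [π₂, el, dif_pos ha, MonoidHom.coe_comp, Function.comp, Subgroup.coe_subtype,
      MonoidHom.coe_snd, hpr a ha]
  have hext : ∀ u v : Γ, π₁ u = π₁ v → π₂ u = π₂ v → u = v := fun u v h1 h2 =>
    Subtype.ext (Prod.ext h1 h2)
  have hel2 : ∀ a < C.k, el a * el a = 1 := fun a ha =>
    hext _ _ (by rw [map_mul, e1 a ha, g2 a ha, map_one]) (by rw [map_mul, e2 a ha, t2 a ha, map_one])
  have helgen : Subgroup.closure (el '' {a | a < C.k}) = ⊤ := by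
    have e : el '' {a | a < C.k} = (Subtype.val : Γ → G × P) ⁻¹' (pr '' {a | a < C.k}) := by
      ext ⟨s, hs⟩
      constructor
      · rintro ⟨a, ha, e⟩
        refine ⟨a, ha, ?_⟩
        have := congrArg Subtype.val e
        simpa only [el, dif_pos (show a < C.k from ha)] using this
      · rintro ⟨a, ha, e⟩
        exact ⟨a, ha, Subtype.ext (by simpa only [el, dif_pos (show a < C.k from ha)] using e)⟩
    rw [e]
    exact Subgroup.closure_closure_coe_preimage
  have hsurj1 : Function.Surjective π₁ := by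
    rw [← MonoidHom.range_eq_top, eq_top_iff, ← gg, Subgroup.closure_le]
    rintro _ ⟨a, ha, rfl⟩
    exact ⟨el a, e1 a ha⟩
  have hsurj2 : Function.Surjective π₂ := by
    rw [← MonoidHom.range_eq_top, eq_top_iff, ← tg, Subgroup.closure_le]
    rintro _ ⟨a, ha, rfl⟩
    exact ⟨el a, e2 a ha⟩
  have hrels : ∀ r ∈ C.rels, (∀ a ∈ r, a < C.k) → ev el r = 1 := fun r hr ha => by
    refine hext _ _ ?_ ?_
    · rw [ev_map, ev_congr g r fun a h => e1 a (ha a h), gr r hr, map_one]
    · rw [ev_map, ev_congr t r fun a h => e2 a (ha a h), tr r hr, map_one]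
  have hrels' : ∀ r ∈ C.rels, ev el r = 1 := fun r hr => hrels r hr (hlet' r hr)
  have hcard := bound Γ el hel2 hrels' helgen
  have hker : Nat.card π₂.ker ≤ 2 := by
    have h1 := Subgroup.card_eq_card_quotient_mul_card_subgroup π₂.ker
    rw [Nat.card_congr (QuotientGroup.quotientKerEquivOfSurjective π₂ hsurj2).toEquiv] at h1
    have : 0 < Nat.card P := Nat.card_pos
    nlinarith
  have hcentral : π₂.ker ≤ π₁.ker := by
    intro k hk
    rw [MonoidHom.mem_ker, ← Subgroup.mem_bot, ← hZ, Subgroup.mem_center_iff]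
    intro u
    obtain ⟨v, rfl⟩ := hsurj1 u
    rw [← map_mul, ← map_mul]
    congr 1
    rcases eq_or_ne k 1 with rfl | hk1
    · simp
    have hkk : v * k * v⁻¹ ∈ π₂.ker := π₂.normal_ker.conj_mem k hk v
    have heq : v * k * v⁻¹ = k := by
      by_contra hne
      have hne1 : v * k * v⁻¹ ≠ 1 := fun e => hk1 (conj_eq_one_iff.1 e)
      have hsub : ({1, k, v * k * v⁻¹} : Set Γ) ⊆ π₂.ker := by
        rintro u (rfl | rfl | rfl)
        exacts [π₂.ker.one_mem, hk, hkk]
      have := Set.ncard_le_ncard hsub (Set.toFinite _)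
      rw [Set.ncard_insert_of_notMem (by simp [Ne.symm hk1, Ne.symm hne1]),
        Set.ncard_pair (Ne.symm hne), ← Nat.card_coe_set_eq] at this
      have h2 : Nat.card ((π₂.ker : Subgroup Γ) : Set Γ) = Nat.card π₂.ker := rfl
      omega
    calc v * k = v * k * v⁻¹ * v := by group
      _ = k * v := by rw [heq]
  let f : P →* G := MonoidHom.liftOfSurjective π₂ hsurj2 ⟨π₁, hcentral⟩
  have hf : ∀ u, f (π₂ u) = π₁ u := fun u => by
    simp [f, MonoidHom.liftOfRightInverse_comp_apply]
  have hfs : Function.Surjective f := fun u => by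
    obtain ⟨v, rfl⟩ := hsurj1 u
    exact ⟨π₂ v, hf v⟩
  have hfi : Function.Injective f := by
    rw [← MonoidHom.ker_eq_bot_iff]
    rcases hP.eq_bot_or_eq_top_of_normal f.ker f.normal_ker with h | h
    · exact h
    · exfalso
      obtain ⟨u, hu⟩ := exists_ne (1 : G)
      obtain ⟨q, rfl⟩ := hfs u
      exact hu (MonoidHom.mem_ker.1 (h ▸ Subgroup.mem_top q))
  exact ⟨(MulEquiv.ofBijective f ⟨hfi, hfs⟩).symm⟩

namespace Geom

variable {G : Type*} [Group G] [Finite G] {D : Set G}

theorem classify (h : Geom D) : Nonempty (G ≃* Equiv.Perm (Fin 6)) ∨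
    ∃ (F : Type) (_ : Field F) (_ : Fintype F), Fintype.card F = 4 ∧
      (Nonempty (G ≃* Cfsg.PSU 4 F 2) ∨ Nonempty (G ≃* Cfsg.PSU 5 F 2)) := by
  obtain ⟨x, c, p, w, hx, hc, hxc, hp, hw, hwp, hwpc, hpl, hwc, hcl⟩ := h.exists_start
  rcases h.params hx hc hxc hw with ⟨h3, hm⟩ | ⟨h5, hm⟩
  · exact Or.inl (h.equiv_perm_six hx hc hxc hp hw hwp hwpc hpl hwc hcl h3 hm)
  right
  refine ⟨SU32.K4, inferInstance, inferInstance, SU32.K4.card_eq, ?_⟩
  have : Nontrivial G := ⟨⟨x, 1, ne_one h.set hx⟩⟩
  have hZ := center_eq_bot_of_trivialRadical h.rad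
  have hF : Fintype.card SU32.K4 = 2 ^ 2 := SU32.K4.card_eq
  rcases hm with hm | hm
  · left
    obtain ⟨g, g2, gr, gg⟩ := h.exists_gens_four hx hc hxc hp hw hwp hpl h5 hm
    obtain ⟨t, t2, tr, tg⟩ := exists_model model_four (by norm_num) SU32.K4.card_eq
    have hcard : Nat.card (Cfsg.PSU 4 SU32.K4 2) = 25920 := by
      have := Cfsg.Agent.S0280.result hF 4 (by norm_num)
      norm_num [Finset.prod_range_succ, Nat.even_iff] at this
      omega
    exact equiv_of_bound (S0283.result hF 4 (by norm_num) (by norm_num)) hZ g2 gr gg t2 tr tg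
      (by decide +kernel) fun Γ el e2 er eg => by rw [hcard]; exact bound_four e2 er eg
  · right
    obtain ⟨g, g2, gr, gg⟩ := h.exists_gens_five hx hc hxc hp hw hwp hpl h5 hm
    obtain ⟨t, t2, tr, tg⟩ := exists_model model_five (by norm_num) SU32.K4.card_eq
    have hcard : Nat.card (Cfsg.PSU 5 SU32.K4 2) = 13685760 := by
      have := Cfsg.Agent.S0280.result hF 5 (by norm_num)
      norm_num [Finset.prod_range_succ, Nat.even_iff] at this
      omega
    exact equiv_of_bound (S0283.result hF 5 (by norm_num) (by norm_num)) hZ g2 gr gg t2 tr tg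
      (by decide +kernel) fun Γ el e2 er eg => by rw [hcard]; exact bound_five e2 er eg

end Geom

end Cfsg.Agent.ThreeTrans.SolvLocal
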