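/-
A small checker for coset tables of groups generated by involutions.

Main result: `Cert.card_le`.
-/
import Cfsg.Agent.EqLemmas

set_option autoImplicit false

namespace Cfsg.Agent.ThreeTrans.SolvLocal

/-- The group element of a word, the first letter applied first. -/
def ev {H : Type*} [Group H] (el : ℕ → H) : List ℕ → H
  | [] => 1
  | a :: w => ev el w * el a

theorem ev_append {H : Type*} [Group H] (el : ℕ → H) :
    ∀ u v : List ℕ, ev el (u ++ v) = ev el v * ev el u
  | [], v => by simp [ev]
  | a :: u, v => by simp [ev, ev_append el u v, mul_assoc]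

theorem ev_map {H K : Type*} [Group H] [Group K] (f : H →* K) (el : ℕ → H) :
    ∀ w : List ℕ, f (ev el w) = ev (fun a => f (el a)) w
  | [] => by simp [ev]
  | a :: w => by simp [ev, ev_map f el w]

theorem ev_eq_prod {H : Type*} [Group H] (el : ℕ → H) :
    ∀ w : List ℕ, ev el w = (w.reverse.map el).prod
  | [] => by simp [ev]
  | a :: w => by simp [ev, ev_eq_prod el w]

/-- A coset table with, for each edge, a rank and a reason (packed in natural numbers). -/
structure Cert where
  k : ℕ
  n : ℕ
  tab : List ℕ
  rk : List ℕ
  why : List ℕ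
  par : ℕ
  letter : ℕ
  sub : List ℕ
  rels : List (List ℕ)
  loops : List (List ℕ)

namespace Cert

variable (C : Cert)

/-- An entry of sixteen bits. -/
def look (T i : ℕ) : ℕ := Nat.mod (Nat.shiftRight T (Nat.mul 16 i)) 65536

def act (g i : ℕ) : ℕ := look (C.tab.getD g 0) i
def rank (g i : ℕ) : ℕ := look (C.rk.getD g 0) i
def reason (g i : ℕ) : ℕ := look (C.why.getD g 0) i
def parent (i : ℕ) : ℕ := look C.par i
def plet (i : ℕ) : ℕ := look C.letter i

/-- The rest of a loop: every edge has rank below `r`, and the walk ends at `fin`. -/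
def walk (r fin : ℕ) : List ℕ → ℕ → Bool
  | [], cur => Nat.beq cur fin
  | a :: w, cur => Nat.blt a C.k && (Nat.blt (C.rank a cur) r && walk r fin w (C.act a cur))

/-- One edge is justified. -/
def edgeOK (g i : ℕ) : Bool :=
  Nat.blt (C.act g i) C.n &&
    match C.reason g i with
    | 0 => Nat.blt i (C.act g i) && (Nat.beq (C.parent (C.act g i)) i &&
        Nat.beq (C.plet (C.act g i)) g)
    | 1 => Nat.blt (C.rank g (C.act g i)) (C.rank g i) && Nat.beq (C.act g (C.act g i)) i
    | 2 => Nat.beq i 0 && (Nat.beq (C.act g i) 0 && C.sub.contains g)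
    | l + 3 => match C.loops.getD l [] with
      | [] => false
      | a :: w => Nat.beq a g && C.walk (C.rank g i) i w (C.act g i)

/-- The whole check. -/
def check : Bool :=
  Nat.blt 0 C.n && ((List.range C.k).all (fun g => (List.range C.n).all (C.edgeOK g)) &&
    C.loops.all fun w => C.rels.any fun r =>
      (List.range (r.length + 1)).any fun j => decide (r.drop j ++ r.take j = w))

variable {C}

theorem card_le {H : Type*} [Group H] [Finite H] (hc : C.check = true) (el : ℕ → H)
    (hinv : ∀ a < C.k, el a * el a = 1) (hrel : ∀ r ∈ C.rels, ev el r = 1)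
    (hgen : Subgroup.closure (el '' {a | a < C.k}) = ⊤) (S : Subgroup H)
    (hsub : ∀ a ∈ C.sub, el a ∈ S) : Nat.card H ≤ C.n * Nat.card S := by
  simp only [check, Bool.and_eq_true, List.all_eq_true, List.mem_range, Nat.blt_eq,
    List.any_eq_true, decide_eq_true_eq] at hc
  obtain ⟨hn, hedge, hloop⟩ := hc
  have hloop' : ∀ l, ∀ a w, C.loops.getD l [] = a :: w → ev el w * el a = 1 := by
    intro l a w h
    have hm : a :: w ∈ C.loops := by
      by_cases hl : l < C.loops.length
      · rw [← h, List.getD_eq_getElem _ _ hl]; exact List.getElem_mem _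
      · rw [List.getD_eq_default _ _ (Nat.le_of_not_lt hl)] at h; simp at h
    obtain ⟨r, hr, j, -, hj⟩ := hloop _ hm
    have h1 : ev el (r.take j) * ev el (r.drop j) = 1 := by
      have h0 := hrel r hr
      rw [← List.take_append_drop j r, ev_append] at h0
      exact mul_eq_one_comm.1 h0
    show ev el (a :: w) = 1
    rw [← hj, ev_append]; exact h1
  let base : H ⧸ S := ((1 : H) : H ⧸ S)
  let φ : ℕ → H ⧸ S := Nat.strongRec fun i ih =>
    if h : C.parent i < i then el (C.plet i) • ih (C.parent i) h else base
  have hφ : ∀ i, φ i = if C.parent i < i then el (C.plet i) • φ (C.parent i) else base := by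
    intro i
    simp only [φ]
    rw [Nat.strongRec]
    split <;> rfl
  have hφ0 : φ 0 = base := by rw [hφ]; simp
  have edge : ∀ r, ∀ g < C.k, ∀ i < C.n, C.rank g i = r → el g • φ i = φ (C.act g i) := by
    intro r
    induction r using Nat.strong_induction_on with
    | _ r ih =>
      intro g hg i hi hr
      have h := hedge g hg i hi
      simp only [edgeOK, Bool.and_eq_true, Nat.blt_eq] at h
      obtain ⟨hlt, h⟩ := h
      split at h
      · simp only [Bool.and_eq_true, Nat.blt_eq, Nat.beq_eq] at h
        rw [hφ (C.act g i), h.2.1, h.2.2, if_pos h.1]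
      · simp only [Bool.and_eq_true, Nat.blt_eq, Nat.beq_eq] at h
        have h2 := ih _ (hr ▸ h.1) g hg _ hlt rfl
        rw [h.2] at h2
        rw [← h2, smul_smul, hinv g hg, one_smul]
      · simp only [Bool.and_eq_true, Nat.beq_eq, List.contains_iff_mem] at h
        rw [h.2.1, h.1, hφ0]
        show ((el g * 1 : H) : H ⧸ S) = _
        rw [QuotientGroup.eq, mul_one, mul_one]
        exact inv_mem (hsub g h.2.2)
      · split at h
        · exact absurd h (by simp)
        rename_i a w hw
        simp only [Bool.and_eq_true, Nat.beq_eq] at h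
        obtain ⟨rfl, h⟩ := h
        have key : ∀ (v : List ℕ) (cur : ℕ), cur < C.n → C.walk (C.rank a i) i v cur = true →
            ev el v • φ cur = φ i := by
          intro v
          induction v with
          | nil =>
            intro cur _ hv
            simp only [walk, Nat.beq_eq] at hv
            rw [hv]; exact one_smul _ _
          | cons b v ihv =>
            intro cur hcur hv
            simp only [walk, Bool.and_eq_true, Nat.blt_eq] at hv
            obtain ⟨hb, hlt', hv⟩ := hv
            have h2 := ih _ (hr ▸ hlt') b hb cur hcur rfl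
            have hnext : C.act b cur < C.n := by
              have h3 := hedge b hb cur hcur
              simp only [edgeOK, Bool.and_eq_true, Nat.blt_eq] at h3
              exact h3.1
            show (ev el v * el b) • φ cur = φ i
            rw [mul_smul, h2]
            exact ihv _ hnext hv
        have h3 := key w _ hlt h
        apply smul_left_cancel (ev el w)
        rw [h3, smul_smul, hloop' _ a w hw, one_smul]
  set Φ : Set (H ⧸ S) := φ '' {i | i < C.n} with hΦ
  have hclosed : ∀ h : H, ∀ q ∈ Φ, h • q ∈ Φ := by
    intro h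
    have hh : h ∈ Subgroup.closure (el '' {a | a < C.k}) := by rw [hgen]; exact Subgroup.mem_top h
    have step : ∀ a < C.k, ∀ q ∈ Φ, el a • q ∈ Φ := by
      rintro a ha _ ⟨i, hi, rfl⟩
      refine ⟨C.act a i, ?_, (edge _ a ha i hi rfl).symm⟩
      have h3 := hedge a ha i hi
      simp only [edgeOK, Bool.and_eq_true, Nat.blt_eq] at h3
      exact h3.1
    induction hh using Subgroup.closure_induction_left with
    | one => intro q hq; rwa [one_smul]
    | mul_left u hu v _ hv =>
      obtain ⟨a, ha, rfl⟩ := hu
      intro q hq
      rw [mul_smul]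
      exact step a ha _ (hv q hq)
    | inv_mul_cancel u hu v _ hv =>
      obtain ⟨a, ha, rfl⟩ := hu
      intro q hq
      rw [mul_smul, inv_eq_of_mul_eq_one_left (hinv a ha)]
      exact step a ha _ (hv q hq)
  have hsurj : ∀ q : H ⧸ S, q ∈ Φ := by
    intro q
    obtain ⟨h, rfl⟩ := QuotientGroup.mk_surjective q
    have h1 := hclosed h base ⟨0, hn, hφ0⟩
    simpa [base] using h1
  have hq : Nat.card (H ⧸ S) ≤ C.n := by
    have e : Φ = Set.univ := Set.eq_univ_of_forall hsurj
    rw [← Set.ncard_univ, ← e, hΦ]
    refine (Set.ncard_image_le (Set.finite_lt_nat _)).trans ?_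
    rw [show {i | i < C.n} = ↑(Finset.range C.n) by ext; simp, Set.ncard_coe_finset, Finset.card_range]
  rw [Subgroup.card_eq_card_quotient_mul_card_subgroup S]
  exact Nat.mul_le_mul_right _ hq

end Cert

end Cfsg.Agent.ThreeTrans.SolvLocal
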